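import Groth.Prelude.Def_Coh
import Groth.Prelude.Def_Pic
import Groth.Agent.L21.Modules
import Mathlib.Topology.Sheaves.SheafCondition.UniqueGluing

/-!
Free generators of rank-one sheaves of modules on opens.
-/

set_option autoImplicit false
universe u

open CategoryTheory AlgebraicGeometry TopologicalSpace Opposite

noncomputable section

namespace Groth.L21.Extend

variable {X : Scheme.{u}} (M : X.Modules)

/-- Restriction of sections. -/
abbrev rs {V V' : X.Opens} (h : V ≤ V') (s : Γ(M, V')) : Γ(M, V) := M.presheaf.map (homOfLE h).op s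

/-- Restriction of functions. -/
abbrev rO (X : Scheme.{u}) {V V' : X.Opens} (h : V ≤ V') (a : Γ(X, V')) : Γ(X, V) :=
  X.presheaf.map (homOfLE h).op a

theorem rs_rs {V V' V'' : X.Opens} (h : V ≤ V') (h' : V' ≤ V'') (s : Γ(M, V'')) :
    rs M h (rs M h' s) = rs M (h.trans h') s := by
  rw [rs, rs, rs, ← ConcreteCategory.comp_apply, ← M.presheaf.map_comp]
  rfl

theorem rs_self {V : X.Opens} (s : Γ(M, V)) : rs M (le_refl V) s = s := by
  have : (homOfLE (le_refl V)).op = 𝟙 (op V) := rfl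
  rw [rs, this, M.presheaf.map_id]
  rfl

theorem rO_rO {V V' V'' : X.Opens} (h : V ≤ V') (h' : V' ≤ V'') (s : Γ(X, V'')) :
    rO X h (rO X h' s) = rO X (h.trans h') s := by
  rw [rO, rO, rO, ← ConcreteCategory.comp_apply, ← X.presheaf.map_comp]
  rfl

theorem rs_smul {V V' : X.Opens} (h : V ≤ V') (a : Γ(X, V')) (s : Γ(M, V')) :
    rs M h (a • s) = rO X h a • rs M h s := M.map_smul _ _ _

theorem eq_of_locally {V : X.Opens} (s t : Γ(M, V))
    (h : ∀ y ∈ V, ∃ (N : X.Opens) (hN : N ≤ V), y ∈ N ∧ rs M hN s = rs M hN t) : s = t := by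
  choose N hN hyN e using fun y : V => h y.1 y.2
  exact TopCat.Sheaf.eq_of_locally_eq' (⟨M.presheaf, M.isSheaf⟩ : TopCat.Sheaf Ab X.toTopCat) N V
    (fun y => homOfLE (hN y)) (fun y hy => Opens.mem_iSup.mpr ⟨⟨y, hy⟩, hyN ⟨y, hy⟩⟩) s t e

theorem exists_glue {ι : Type u} (N : ι → X.Opens) (V : X.Opens) (hN : ∀ i, N i ≤ V)
    (hcov : ∀ y ∈ V, ∃ i, y ∈ N i) (s : ∀ i, Γ(M, N i))
    (hs : ∀ i j, rs M (inf_le_left : N i ⊓ N j ≤ N i) (s i) = rs M (inf_le_right : N i ⊓ N j ≤ N j) (s j)) :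
    ∃ t : Γ(M, V), ∀ i, rs M (hN i) t = s i := by
  obtain ⟨t, ht, -⟩ := TopCat.Sheaf.existsUnique_gluing' (⟨M.presheaf, M.isSheaf⟩ : TopCat.Sheaf Ab X.toTopCat) N V
    (fun i => homOfLE (hN i)) (fun y hy => Opens.mem_iSup.mpr (hcov y hy)) s hs
  exact ⟨t, ht⟩

/-- A free generator of a module on an open. -/
def IsGen (O : X.Opens) (e : Γ(M, O)) : Prop :=
  ∀ (V : X.Opens) (h : V ≤ O), Function.Bijective fun a : Γ(X, V) => a • rs M h e

theorem IsGen.restrict {O O' : X.Opens} {e : Γ(M, O)} (he : IsGen M O e) (h : O' ≤ O) :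
    IsGen M O' (rs M h e) := fun V hV => by
  simp only [rs_rs]
  exact he V (hV.trans h)

theorem exists_iso_of_isGen {O : X.Opens} {e : Γ(M, O)} (he : IsGen M O e) :
    Nonempty (M.restrict O.ι ≅ Coh.structureModule (↑O : Scheme.{u})) := by
  let N := M.restrict O.ι
  let s : SheafOfModules.sections N :=
    PresheafOfModules.sectionsMk (M := N.val) (fun V => rs M (O.ι_image_le V.unop) e) fun {V W} f => by
      exact rs_rs M (O.ι.image_mono f.unop.le) (O.ι_image_le V.unop) e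
  let φ : Coh.structureModule (↑O : Scheme.{u}) ⟶ N := (SheafOfModules.unitHomEquiv N).symm s
  haveI : IsIso φ := by
    rw [Scheme.Modules.Hom.isIso_iff_isIso_app]
    intro V
    rw [ConcreteCategory.isIso_iff_bijective]
    exact (he (O.ι ''ᵁ V) (O.ι_image_le V)).comp
      (ConcreteCategory.bijective_of_isIso (O.ι.appIso V).inv)
  exact ⟨(asIso φ).symm⟩

theorem exists_gen_of_iso {O : X.Opens}
    (φ : M.restrict O.ι ≅ Coh.structureModule (↑O : Scheme.{u})) : ∃ e : Γ(M, O), IsGen M O e := by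
  have htop : O.ι ''ᵁ ⊤ = O := O.ι_image_top
  let e₀ : Γ(M, O.ι ''ᵁ ⊤) := φ.inv.app ⊤ (show Γ(O.toScheme, ⊤) from 1)
  refine ⟨rs M htop.ge e₀, fun V hV => ?_⟩
  obtain ⟨V', rfl⟩ : ∃ V', O.ι ''ᵁ V' = V := ⟨O.ι ⁻¹ᵁ V, Mod.image_preimage_of_le hV⟩
  have h1 : ∀ r : Γ(O.toScheme, V'),
      (show Γ(M, O.ι ''ᵁ V') from φ.inv.app V' r) =
        (O.ι.appIso V').inv r • rs M (O.ι_image_le V') (rs M htop.ge e₀) := by
    intro r
    rw [rs_rs]
    have h2 : (show Γ(M, O.ι ''ᵁ V') from φ.inv.app V' (show Γ(O.toScheme, V') from 1)) =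
        rs M ((O.ι_image_le V').trans htop.ge) e₀ := by
      have hn := ConcreteCategory.congr_hom (φ.inv.mapPresheaf.naturality (homOfLE (le_top : V' ≤ ⊤)).op)
        (show Γ(O.toScheme, ⊤) from 1)
      have h1' : (Coh.structureModule (↑O : Scheme.{u})).presheaf.map (homOfLE (le_top : V' ≤ ⊤)).op
          (show Γ(O.toScheme, ⊤) from 1) = (show Γ(O.toScheme, V') from 1) := map_one (O.toScheme.presheaf.map _).hom
      rw [ConcreteCategory.comp_apply, ConcreteCategory.comp_apply, h1'] at hn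
      exact hn
    have h3 : φ.inv.app V' r = r • φ.inv.app V' (show Γ(O.toScheme, V') from 1) := by
      rw [← φ.inv.app_smul]
      congr 1
      exact (mul_one r).symm
    rw [h3, ← h2]
    rfl
  have hb : Function.Bijective (fun r : Γ(O.toScheme, V') =>
      (O.ι.appIso V').inv r • rs M (O.ι_image_le V') (rs M htop.ge e₀)) := by
    simp only [← h1]
    exact ConcreteCategory.bijective_of_isIso (φ.inv.app V')
  exact (Function.Bijective.of_comp_iff _ (ConcreteCategory.bijective_of_isIso (O.ι.appIso V').inv)).mp hb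

/-- Sections are determined by their restrictions to `U`. -/
def SupportedOn (U : X.Opens) : Prop :=
  ∀ V : X.Opens, Function.Bijective fun s : Γ(M, V) => rs M (inf_le_left : V ⊓ U ≤ V) s

/-- Locally on `U` the module has a free generator. -/
def GenOn (U : X.Opens) : Prop :=
  ∀ y ∈ U, ∃ (O : X.Opens) (_ : y ∈ O) (_ : O ≤ U) (e : Γ(M, O)), IsGen M O e

end Groth.L21.Extend
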