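import Groth.Agent.L21.Extend.Gen
import Groth.Agent.L00.LocalData
import Mathlib.AlgebraicGeometry.Modules.Tilde
import Mathlib.AlgebraicGeometry.Morphisms.QuasiFinite

/-!
Invertible modules are trivial near finite sets of incomparable points of affine schemes.
-/

set_option autoImplicit false
universe u

open CategoryTheory AlgebraicGeometry TopologicalSpace Opposite

noncomputable section

namespace Groth.L21.Extend

theorem isGen_of_locally {X : Scheme.{u}} {M : X.Modules} {U : X.Opens} {e : Γ(M, U)}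
    (h : ∀ y ∈ U, ∃ (O : X.Opens) (hO : O ≤ U), y ∈ O ∧ IsGen M O (rs M hO e)) : IsGen M U e := by
  choose O hOU hyO hO using h
  intro V hV
  refine ⟨fun a b hab => ?_, fun s => ?_⟩
  · refine eq_of_locally (Coh.structureModule X) a b fun y hy => ?_
    refine ⟨V ⊓ O y (hV hy), inf_le_left, ⟨hy, hyO y (hV hy)⟩, ?_⟩
    apply (hO y (hV hy) (V ⊓ O y (hV hy)) inf_le_right).1
    show rO X inf_le_left a • rs M _ (rs M _ e) = rO X inf_le_left b • rs M _ (rs M _ e)
    have h1 := congrArg (rs M (inf_le_left : V ⊓ O y (hV hy) ≤ V)) hab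
    simp only [rs_smul, rs_rs] at h1
    simpa only [rs_rs] using h1
  · let N : V → X.Opens := fun y => V ⊓ O y.1 (hV y.2)
    choose a ha using fun y : V => (hO y.1 (hV y.2) (N y) inf_le_right).2 (rs M inf_le_left s)
    obtain ⟨t, ht⟩ := exists_glue (Coh.structureModule X) N V (fun y => inf_le_left)
      (fun y hy => ⟨⟨y, hy⟩, hy, hyO y (hV hy)⟩) a fun i k => by
        apply (hO i.1 (hV i.2) (N i ⊓ N k) (inf_le_left.trans inf_le_right)).1
        show rO X (inf_le_left : N i ⊓ N k ≤ N i) (a i) • rs M _ (rs M _ e) =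
          rO X (inf_le_right : N i ⊓ N k ≤ N k) (a k) • rs M _ (rs M _ e)
        have h1 := congrArg (rs M (inf_le_left : N i ⊓ N k ≤ N i)) (ha i)
        have h2 := congrArg (rs M (inf_le_right : N i ⊓ N k ≤ N k)) (ha k)
        simp only [rs_smul, rs_rs] at h1 h2
        rw [rs_rs, h1, h2]
    refine ⟨t, eq_of_locally M _ _ fun y hy => ⟨N ⟨y, hy⟩, inf_le_left, ⟨hy, hyO y (hV hy)⟩, ?_⟩⟩
    rw [rs_smul, rs_rs, ← ha ⟨y, hy⟩]
    show rO X _ t • _ = a ⟨y, hy⟩ • rs M _ (rs M _ e)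
    rw [rs_rs, show rO X inf_le_left t = a ⟨y, hy⟩ from ht ⟨y, hy⟩]

theorem IsGen.smul_unit {X : Scheme.{u}} {M : X.Modules} {U : X.Opens} {e : Γ(M, U)} (he : IsGen M U e)
    {a : Γ(X, U)} (ha : IsUnit a) : IsGen M U (a • e) := by
  intro V hV
  obtain ⟨b, hb⟩ := (ha.map (X.presheaf.map (homOfLE hV).op).hom).exists_right_inv
  replace hb : rO X hV a * b = 1 := hb
  simp only [rs_smul, smul_smul]
  refine ⟨fun r r' h => ?_, fun s => ?_⟩
  · have h1 : r * rO X hV a = r' * rO X hV a := (he V hV).1 h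
    calc r = r * (rO X hV a * b) := by rw [hb, mul_one]
      _ = r' * (rO X hV a * b) := by rw [← mul_assoc, h1, mul_assoc]
      _ = r' := by rw [hb, mul_one]
  · obtain ⟨r, hr⟩ := (he V hV).2 s
    refine ⟨r * b, ?_⟩
    show (r * b * rO X hV a) • rs M hV e = s
    rw [mul_assoc, mul_comm b, hb, mul_one]
    exact hr

theorem exists_isGen_image {X Y : Scheme.{u}} (j : Y ⟶ X) [IsOpenImmersion j] {M : X.Modules} {G : Y.Opens}
    {g : Γ(M.restrict j, G)} (hg : IsGen (M.restrict j) G g) : IsGen M (j ''ᵁ G) g := by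
  intro V hV
  obtain ⟨V', rfl⟩ : ∃ V', j ''ᵁ V' = V :=
    ⟨j ⁻¹ᵁ V, by rw [Scheme.Hom.image_preimage_eq_opensRange_inf,
      inf_eq_right.mpr (hV.trans (Scheme.Hom.image_le_opensRange j G))]⟩
  have hV' : V' ≤ G := fun z hz => by
    obtain ⟨w, hw, e⟩ := hV ⟨z, hz, rfl⟩
    rwa [← j.isOpenEmbedding.injective e]
  exact (Function.Bijective.of_comp_iff _ (ConcreteCategory.bijective_of_isIso (j.appIso V').inv)).mp (hg V' hV')

theorem isQCoh_of_isInvertible {X : Scheme.{u}} {M : X.Modules} (hM : PicF.IsInvertible M) : Coh.IsQCoh M := by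
  refine Groth.L00.Local.isQCoh_of_tilde_charts M fun x => ?_
  obtain ⟨W, hxW, ⟨φ⟩⟩ := hM x
  obtain ⟨W', hA, hxW', hle⟩ := exists_isAffineOpen_mem_and_subset hxW
  have hr : Set.range hA.fromSpec ⊆ Set.range W.ι := by
    rw [hA.range_fromSpec, Scheme.Opens.range_ι]; exact hle
  let l := IsOpenImmersion.lift W.ι hA.fromSpec hr
  have hl : l ≫ W.ι = hA.fromSpec := IsOpenImmersion.lift_fac _ _ _
  haveI : IsOpenImmersion (l ≫ W.ι) := hl ▸ inferInstance
  haveI : IsOpenImmersion l := IsOpenImmersion.of_comp l W.ι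
  refine ⟨_, hA.fromSpec, inferInstance, ModuleCat.of Γ(X, W') Γ(X, W'), by rw [hA.opensRange_fromSpec]; exact hxW', ⟨?_⟩⟩
  exact ((Scheme.Modules.restrictFunctorCongr hl).app M).symm ≪≫
    (Scheme.Modules.restrictFunctorComp l W.ι).app M ≪≫
    (Scheme.Modules.restrictFunctor l).mapIso φ ≪≫ Scheme.Modules.restrictUnitIso l ≪≫ tildeSelf.symm

/-- Near finitely many incomparable points of a spectrum an invertible module has a generator. -/
theorem exists_isGen_near {R : CommRingCat.{u}} (M : (Spec R).Modules) (hM : PicF.IsInvertible M)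
    (S : Set (Spec R)) (hS : S.Finite) (hinc : ∀ p ∈ S, ∀ q ∈ S, p ⤳ q → p = q) :
    ∃ (G : (Spec R).Opens) (g : Γ(M, G)), S ⊆ G ∧ IsGen M G g := by
  classical
  haveI : Coh.IsQCoh M := isQCoh_of_isInvertible hM
  haveI := hS.fintype
  have hloc := (isIso_fromTildeΓ_iff_isLocalizing M).mp inferInstance
  have hloc' : ∀ p : S, ∃ (f : R) (e : Γ(M, PrimeSpectrum.basicOpen f)) (t : Γ(M, ⊤)) (n : ℕ),
      f ∉ (p.1 : PrimeSpectrum R).asIdeal ∧ IsGen M (PrimeSpectrum.basicOpen f) e ∧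
      rs M le_top t = algebraMap R Γ(Spec R, PrimeSpectrum.basicOpen f) (f ^ n) • e := by
    rintro ⟨p, hp⟩
    obtain ⟨W, hpW, ⟨φ⟩⟩ := hM p
    obtain ⟨e, he⟩ := exists_gen_of_iso M φ
    obtain ⟨_, ⟨f, rfl⟩, hpf, hf⟩ := PrimeSpectrum.isTopologicalBasis_basic_opens.exists_subset_of_mem_open hpW W.isOpen
    have hfW : PrimeSpectrum.basicOpen f ≤ W := hf
    obtain ⟨⟨t, ⟨_, n, rfl⟩⟩, ht⟩ := (hloc f).surj
      (show (modulesSpecToSheaf.obj M).obj.obj (op (PrimeSpectrum.basicOpen f)) from rs M hfW e)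
    exact ⟨f, rs M hfW e, t, n, hpf, he.restrict M hfW, ht.symm⟩
  choose f e t n hfp he ht using hloc'
  have hc : ∀ p : S, ∃ c : R, c ∉ (p.1 : PrimeSpectrum R).asIdeal ∧
      ∀ q : S, q ≠ p → c ∈ (q.1 : PrimeSpectrum R).asIdeal := by
    intro p
    have : ∀ q : {q : S // q ≠ p}, ∃ c, c ∈ (q.1.1 : PrimeSpectrum R).asIdeal ∧
        c ∉ (p.1 : PrimeSpectrum R).asIdeal := fun q => by
      refine SetLike.not_le_iff_exists.mp fun h => q.2 ?_
      exact Subtype.ext (hinc _ q.1.2 _ p.2 ((PrimeSpectrum.le_iff_specializes _ _).mp h))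
    choose c hc hcp using this
    refine ⟨∏ q, c q, fun h => ?_, fun q hq => ?_⟩
    · obtain ⟨q, -, hq⟩ := ((p.1 : PrimeSpectrum R).2.prod_mem_iff).mp h
      exact hcp q hq
    · exact Ideal.mem_of_dvd _ (Finset.dvd_prod_of_mem c (Finset.mem_univ (⟨q, hq⟩ : {q : S // q ≠ p}))) (hc ⟨q, hq⟩)
  choose c hcp hc using hc
  let m : Γ(M, ⊤) := ∑ q : S, algebraMap R Γ(Spec R, ⊤) (c q) • t q
  let G : (Spec R).Opens := sSup {O | IsGen M O (rs M le_top m)}
  have hG : IsGen M G (rs M le_top m) := isGen_of_locally fun y hy => by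
    obtain ⟨O, hO, hyO⟩ := Opens.mem_sSup.mp hy
    exact ⟨O, le_sSup hO, hyO, by rw [rs_rs]; exact hO⟩
  refine ⟨G, _, fun p hp => ?_, hG⟩
  let P : S := ⟨p, hp⟩
  let D : (Spec R).Opens := PrimeSpectrum.basicOpen (f P)
  have hco : ∀ q : S, ∃ a : Γ(Spec R, D), a • e P = rs M le_top (t q) := fun q => by
    obtain ⟨a, ha⟩ := (he P D le_rfl).2 (rs M le_top (t q))
    exact ⟨a, by simpa only [rs_self] using ha⟩
  choose a ha using hco
  let z : Γ(Spec R, D) := ∑ q : S, algebraMap R Γ(Spec R, D) (c q) * a q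
  have hm : rs M (le_top : D ≤ ⊤) m = z • e P := by
    simp only [m, z, rs, map_sum, Finset.sum_smul]
    refine Finset.sum_congr rfl fun q _ => ?_
    rw [mul_smul, ha]
    exact rs_smul M (le_top : D ≤ ⊤) _ (t q)
  have hpD : p ∈ D := hfp P
  have hz : IsUnit ((Spec R).presheaf.germ D p hpD z) := by
    let γ := ((Spec R).presheaf.germ D p hpD).hom
    let σ : R →+* (Spec R).presheaf.stalk p := γ.comp (algebraMap R Γ(Spec R, D))
    have hσ : ∀ r : R, σ r = (StructureSheaf.toStalk R p).hom r := fun r => by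
      show γ (algebraMap R Γ(Spec R, D) r) = _
      exact (Spec R).presheaf.germ_res_apply (homOfLE le_top) p hpD (algebraMap R Γ(Spec R, ⊤) r)
    have hin : ∀ r : R, r ∈ (p : PrimeSpectrum R).asIdeal → σ r ∈ IsLocalRing.maximalIdeal ((Spec R).presheaf.stalk p) := fun r hr => by
      rw [hσ]
      exact (IsLocalization.AtPrime.to_map_mem_maximal_iff ((Spec.structureSheaf R).presheaf.stalk p) (p : PrimeSpectrum R).asIdeal r).mpr hr
    have hout : ∀ r : R, r ∉ (p : PrimeSpectrum R).asIdeal → IsUnit (σ r) := fun r hr => by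
      rw [hσ]
      exact IsLocalization.map_units ((Spec.structureSheaf R).presheaf.stalk p) (⟨r, hr⟩ : (p : PrimeSpectrum R).asIdeal.primeCompl)
    have haP : a P = algebraMap R Γ(Spec R, D) (f P ^ n P) :=
      (he P D le_rfl).1 (by simpa only [rs_self] using (ha P).trans (ht P))
    have hsplit : γ z = σ (c P * f P ^ n P) + ∑ q ∈ Finset.univ.erase P, σ (c q) * γ (a q) := by
      rw [map_sum γ, ← Finset.add_sum_erase _ _ (Finset.mem_univ P), haP]
      congr 1
      · exact (congrArg γ (map_mul (algebraMap R Γ(Spec R, D)) (c P) _).symm)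
      · exact Finset.sum_congr rfl fun q _ => map_mul γ _ _
    show IsUnit (γ z)
    rw [hsplit]
    by_contra hu
    have h1 : ∑ q ∈ Finset.univ.erase P, σ (c q) * γ (a q) ∈ IsLocalRing.maximalIdeal _ :=
      Ideal.sum_mem _ fun q hq => Ideal.mul_mem_right _ _
        (hin _ (hc q P (Finset.ne_of_mem_erase hq).symm))
    have h2 : σ (c P * f P ^ n P) ∈ IsLocalRing.maximalIdeal _ := by
      simpa using Ideal.sub_mem _ ((IsLocalRing.mem_maximalIdeal _).mpr hu) h1
    exact h2 (hout _ fun h => ((p : PrimeSpectrum R).2.mem_or_mem h).elim (hcp P)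
      fun h' => hfp P ((p : PrimeSpectrum R).2.mem_of_pow_mem _ h'))
  obtain ⟨O, hOD, hpO, hu⟩ := RingedSpace.isUnit_res_of_isUnit_germ (Spec R).toRingedSpace D z p hpD hz
  refine Opens.mem_sSup.mpr ⟨O, ?_, hpO⟩
  show IsGen M O (rs M le_top m)
  rw [← rs_rs M hOD.le (le_top : D ≤ ⊤), hm, rs_smul]
  exact IsGen.smul_unit ((he P).restrict M hOD.le) hu

theorem exists_trivial_preimage {X Y : Scheme.{u}} (π : X ⟶ Y) [IsFinite π]
    (L : X.Modules) (hL : PicF.IsInvertible L) (y : Y) :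
    ∃ V : Y.Opens, y ∈ V ∧ Nonempty (L.restrict (π ⁻¹ᵁ V).ι ≅ Coh.structureModule (↑(π ⁻¹ᵁ V))) := by
  obtain ⟨W, hW, hyW, -⟩ := exists_isAffineOpen_mem_and_subset (Opens.mem_top y)
  let hX' : IsAffineOpen (π ⁻¹ᵁ W) := IsAffineOpen.preimage hW π
  let j := hX'.fromSpec
  have hinv : PicF.IsInvertible (L.restrict j) := fun z => by
    obtain ⟨O, hzO, ⟨φ⟩⟩ := hL (j z)
    obtain ⟨e, he⟩ := exists_gen_of_iso L φ
    refine ⟨j ⁻¹ᵁ O, hzO, exists_iso_of_isGen _ (e := rs L (Scheme.Hom.image_preimage_le j O) e) fun V hV => ?_⟩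
    have h1 : j ''ᵁ V ≤ O := (j.image_mono hV).trans (Scheme.Hom.image_preimage_le j O)
    have h2 := (he (j ''ᵁ V) h1).comp (ConcreteCategory.bijective_of_isIso (j.appIso V).inv)
    refine ⟨fun a b hab => h2.1 ?_, fun s => (h2.2 s).imp fun a ha => ?_⟩
    · show (j.appIso V).inv a • rs L h1 e = (j.appIso V).inv b • rs L h1 e
      rw [← rs_rs L (j.image_mono hV) (Scheme.Hom.image_preimage_le j O)]
      exact hab
    · show (j.appIso V).inv a • rs L (j.image_mono hV) (rs L (Scheme.Hom.image_preimage_le j O) e) = s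
      rw [rs_rs]
      exact ha
  have hfin : (j ⁻¹' (π ⁻¹' {y})).Finite :=
    (π.finite_preimage_singleton y).preimage j.isOpenEmbedding.injective.injOn
  have hdisc := π.isDiscrete_preimage_singleton y
  obtain ⟨G, g, hSG, hg⟩ := exists_isGen_near (L.restrict j) hinv (j ⁻¹' (π ⁻¹' {y})) hfin
    (fun p hp q hq hpq => by
      haveI := hdisc.to_subtype
      let a : (π ⁻¹' {y} : Set X) := ⟨j p, hp⟩
      let b : (π ⁻¹' {y} : Set X) := ⟨j q, hq⟩
      have hab : a ⤳ b := (subtype_specializes_iff a b).mpr (hpq.map j.continuous)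
      have h0 : a = b := hab.eq
      have h : j p = j q := Subtype.mk.inj h0
      exact j.isOpenEmbedding.injective h)
  have hg' := exists_isGen_image j hg
  have hclosed : IsClosed (π '' ((j ''ᵁ G : X.Opens) : Set X)ᶜ) :=
    π.isClosedMap _ (j ''ᵁ G).isOpen.isClosed_compl
  let V : Y.Opens := W ⊓ ⟨(π '' ((j ''ᵁ G : X.Opens) : Set X)ᶜ)ᶜ, hclosed.isOpen_compl⟩
  refine ⟨V, ⟨hyW, ?_⟩, exists_iso_of_isGen L (hg'.restrict L (O' := π ⁻¹ᵁ V) ?_)⟩
  · rintro ⟨x, hx, hxy⟩
    have hxW : x ∈ π ⁻¹ᵁ W := by show π x ∈ W; rwa [hxy]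
    obtain ⟨z, rfl⟩ := hX'.range_fromSpec.ge hxW
    exact hx ⟨z, hSG hxy, rfl⟩
  · intro x hx
    by_contra hxG
    exact hx.2 ⟨x, hxG, rfl⟩

end Groth.L21.Extend
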