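import Groth.Agent.L21.Extend.Main
import Mathlib.CategoryTheory.Limits.Shapes.BinaryBiproducts

/-!
Extension of invertible modules from an arbitrary open across points with factorial local rings.
-/

set_option autoImplicit false
universe u

open CategoryTheory CategoryTheory.Limits AlgebraicGeometry TopologicalSpace Opposite

noncomputable section

namespace Groth.L21.Extend

variable {X : Scheme.{u}}

theorem subsingleton_bot (M : X.Modules) {V : X.Opens} (hV : ∀ y, y ∉ V) : Subsingleton Γ(M, V) :=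
  ⟨fun _ _ => eq_of_locally M _ _ fun y hy => absurd hy (hV y)⟩

theorem supportedOn_pushforward {O U : X.Opens} (hOU : O ≤ U) (L : (O : Scheme.{u}).Modules) :
    SupportedOn ((Scheme.Modules.pushforward O.ι).obj L) U := by
  intro V
  have h : O.ι ⁻¹ᵁ V = O.ι ⁻¹ᵁ (V ⊓ U) :=
    Opens.ext (Set.ext fun z => ⟨fun hz => ⟨hz, hOU z.2⟩, fun hz => hz.1⟩)
  haveI : IsIso ((Opens.map O.ι.base).op.map (homOfLE (inf_le_left : V ⊓ U ≤ V)).op) :=
    ⟨(eqToHom h).op, Subsingleton.elim _ _, Subsingleton.elim _ _⟩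
  exact ConcreteCategory.bijective_of_isIso (L.presheaf.map ((Opens.map O.ι.base).op.map (homOfLE (inf_le_left : V ⊓ U ≤ V)).op))

theorem genOn_pushforward {O : X.Opens} (L : (O : Scheme.{u}).Modules) (hL : PicF.IsInvertible L) :
    GenOn ((Scheme.Modules.pushforward O.ι).obj L) O := by
  intro y hy
  obtain ⟨W, hyW, ⟨φ⟩⟩ := hL ⟨y, hy⟩
  obtain ⟨e, he⟩ := exists_gen_of_iso L φ
  have hpre : O.ι ⁻¹ᵁ (O.ι ''ᵁ W) = W := O.ι.preimage_image_eq W
  refine ⟨O.ι ''ᵁ W, ⟨⟨y, hy⟩, hyW, rfl⟩, O.ι_image_le W, rs L hpre.le e, fun V hV => ?_⟩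
  have hVO : V ≤ O := hV.trans (O.ι_image_le W)
  have hle : O.ι ⁻¹ᵁ V ≤ W := (O.ι.preimage_mono hV).trans hpre.le
  have hbij : Function.Bijective (O.ι.app V) := by
    haveI : IsIso (O.ι.app V) := O.ι.isIso_app V (by rwa [Scheme.Opens.opensRange_ι])
    exact ConcreteCategory.bijective_of_isIso _
  have h1 := (he (O.ι ⁻¹ᵁ V) hle).comp hbij
  have key : ∀ a : Γ(X, V), (show Γ(L, O.ι ⁻¹ᵁ V) from (show Γ(L, O.ι ⁻¹ᵁ V) from O.ι.app V a • rs L (O.ι.preimage_mono hV) (rs L hpre.le e))) = O.ι.app V a • rs L hle e := fun a => by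
    show O.ι.app V a • rs L (O.ι.preimage_mono hV) (rs L hpre.le e) = _
    rw [rs_rs]
  exact ⟨fun a b hab => h1.1 ((key a).symm.trans (hab.trans (key b))), fun s => (h1.2 s).imp fun a ha => (key a).trans ha⟩

theorem app_comp_apply {M N K : X.Modules} (φ : M ⟶ N) (ψ : N ⟶ K) (V : X.Opens) (s : Γ(M, V)) :
    ψ.app V (φ.app V s) = (φ ≫ ψ).app V s := rfl

theorem rs_app {M N : X.Modules} (φ : M ⟶ N) {V V' : X.Opens} (h : V' ≤ V) (s : Γ(M, V)) :
    φ.app V' (rs M h s) = rs N h (φ.app V s) :=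
  ConcreteCategory.congr_hom (φ.mapPresheaf.naturality (homOfLE h).op) s

variable (A B : X.Modules)

theorem biprod_ext {V : X.Opens} {s t : Γ(A ⊞ B, V)}
    (h1 : (biprod.fst : A ⊞ B ⟶ A).app V s = (biprod.fst : A ⊞ B ⟶ A).app V t)
    (h2 : (biprod.snd : A ⊞ B ⟶ B).app V s = (biprod.snd : A ⊞ B ⟶ B).app V t) : s = t := by
  have key : ∀ r : Γ(A ⊞ B, V), r = (biprod.inl : A ⟶ A ⊞ B).app V ((biprod.fst : A ⊞ B ⟶ A).app V r) +
      (biprod.inr : B ⟶ A ⊞ B).app V ((biprod.snd : A ⊞ B ⟶ B).app V r) := fun r => by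
    have h := congrArg (fun φ : A ⊞ B ⟶ A ⊞ B => φ.app V r) (biprod.total (X := A) (Y := B))
    exact h.symm
  rw [key s, key t, h1, h2]

theorem biprod_exists {V : X.Opens} (a : Γ(A, V)) (b : Γ(B, V)) :
    ∃ s : Γ(A ⊞ B, V), (biprod.fst : A ⊞ B ⟶ A).app V s = a ∧ (biprod.snd : A ⊞ B ⟶ B).app V s = b := by
  refine ⟨(biprod.inl : A ⟶ A ⊞ B).app V a + (biprod.inr : B ⟶ A ⊞ B).app V b, ?_, ?_⟩
  · rw [map_add, app_comp_apply, app_comp_apply, biprod.inl_fst, biprod.inr_fst]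
    simp
  · rw [map_add, app_comp_apply, app_comp_apply, biprod.inl_snd, biprod.inr_snd]
    simp

theorem supportedOn_biprod {U : X.Opens} (hA : SupportedOn A U) (hB : SupportedOn B U) :
    SupportedOn (A ⊞ B) U := by
  intro V
  refine ⟨fun s t h => biprod_ext A B ((hA V).1 ?_) ((hB V).1 ?_), fun r => ?_⟩
  · show rs A _ _ = rs A _ _
    rw [← rs_app, ← rs_app, show rs (A ⊞ B) _ s = rs (A ⊞ B) _ t from h]
  · show rs B _ _ = rs B _ _
    rw [← rs_app, ← rs_app, show rs (A ⊞ B) _ s = rs (A ⊞ B) _ t from h]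
  · obtain ⟨a, ha⟩ := (hA V).2 ((biprod.fst : A ⊞ B ⟶ A).app _ r)
    obtain ⟨b, hb⟩ := (hB V).2 ((biprod.snd : A ⊞ B ⟶ B).app _ r)
    obtain ⟨s, hs1, hs2⟩ := biprod_exists A B a b
    refine ⟨s, biprod_ext A B ?_ ?_⟩
    · show (biprod.fst : A ⊞ B ⟶ A).app _ (rs _ _ s) = _
      rw [rs_app, hs1]; exact ha
    · show (biprod.snd : A ⊞ B ⟶ B).app _ (rs _ _ s) = _
      rw [rs_app, hs2]; exact hb

theorem isGen_biprod_left {O : X.Opens} {a : Γ(A, O)} (ha : IsGen A O a)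
    (hB : ∀ V ≤ O, Subsingleton Γ(B, V)) : IsGen (A ⊞ B) O ((biprod.inl : A ⟶ A ⊞ B).app O a) := by
  intro V hV
  haveI := hB V hV
  refine ⟨fun r r' h => (ha V hV).1 ?_, fun s => ?_⟩
  · have h1 := congrArg ((biprod.fst : A ⊞ B ⟶ A).app V) h
    simpa only [Scheme.Modules.Hom.app_smul, rs_app, app_comp_apply, biprod.inl_fst,
      Scheme.Modules.Hom.id_app, ConcreteCategory.id_apply] using h1
  · obtain ⟨r, hr⟩ := (ha V hV).2 ((biprod.fst : A ⊞ B ⟶ A).app V s)
    refine ⟨r, biprod_ext A B ?_ (Subsingleton.elim _ _)⟩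
    simpa only [Scheme.Modules.Hom.app_smul, rs_app, app_comp_apply, biprod.inl_fst,
      Scheme.Modules.Hom.id_app, ConcreteCategory.id_apply] using hr

theorem isGen_biprod_right {O : X.Opens} {b : Γ(B, O)} (hb : IsGen B O b)
    (hA : ∀ V ≤ O, Subsingleton Γ(A, V)) : IsGen (A ⊞ B) O ((biprod.inr : B ⟶ A ⊞ B).app O b) := by
  intro V hV
  haveI := hA V hV
  refine ⟨fun r r' h => (hb V hV).1 ?_, fun s => ?_⟩
  · have h1 := congrArg ((biprod.snd : A ⊞ B ⟶ B).app V) h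
    simpa only [Scheme.Modules.Hom.app_smul, rs_app, app_comp_apply, biprod.inr_snd,
      Scheme.Modules.Hom.id_app, ConcreteCategory.id_apply] using h1
  · obtain ⟨r, hr⟩ := (hb V hV).2 ((biprod.snd : A ⊞ B ⟶ B).app V s)
    refine ⟨r, biprod_ext A B (Subsingleton.elim _ _) ?_⟩
    simpa only [Scheme.Modules.Hom.app_smul, rs_app, app_comp_apply, biprod.inr_snd,
      Scheme.Modules.Hom.id_app, ConcreteCategory.id_apply] using hr

theorem isInvertible_structureModule (Y : Scheme.{u}) : PicF.IsInvertible (Coh.structureModule Y) :=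
  fun _ => ⟨⊤, trivial, ⟨Scheme.Modules.restrictUnitIso _⟩⟩

theorem exists_invertible_extension [IsLocallyNoetherian X] (U : X.Opens)
    (L : (U : Scheme.{u}).Modules) (hL : PicF.IsInvertible L)
    (hufd : ∀ x : X, x ∉ U → UniqueFactorizationMonoid (X.presheaf.stalk x)) :
    ∃ L' : X.Modules, PicF.IsInvertible L' ∧ Nonempty (L'.restrict U.ι ≅ L) := by
  let V : X.Opens := ⟨(closure (U : Set X))ᶜ, isClosed_closure.isOpen_compl⟩
  let A := (Scheme.Modules.pushforward U.ι).obj L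
  let B := (Scheme.Modules.pushforward V.ι).obj (Coh.structureModule (↑V : Scheme.{u}))
  have hdisj : ∀ y : X, y ∈ U → y ∉ V := fun y hy hyV => hyV (subset_closure hy)
  have hA0 : ∀ W ≤ V, Subsingleton Γ(A, W) := fun W hW => subsingleton_bot (X := (U : Scheme.{u})) L
    fun z hz => hdisj (U.ι z) z.2 (hW hz)
  have hB0 : ∀ W ≤ U, Subsingleton Γ(B, W) := fun W hW => subsingleton_bot (X := (V : Scheme.{u})) _
    fun z hz => hdisj (V.ι z) (hW hz) z.2
  have hs : SupportedOn (A ⊞ B) (U ⊔ V) := supportedOn_biprod A B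
    (supportedOn_pushforward le_sup_left L) (supportedOn_pushforward le_sup_right _)
  have hgen : GenOn (A ⊞ B) (U ⊔ V) := by
    intro y hy
    rcases hy with hy | hy
    · obtain ⟨O, hyO, hOU, g, hg⟩ := genOn_pushforward L hL y hy
      exact ⟨O, hyO, hOU.trans le_sup_left, _, isGen_biprod_left A B hg fun W hW => hB0 W (hW.trans hOU)⟩
    · obtain ⟨O, hyO, hOV, g, hg⟩ := genOn_pushforward _ (isInvertible_structureModule (↑V : Scheme.{u})) y hy
      exact ⟨O, hyO, hOV.trans le_sup_right, _, isGen_biprod_right A B hg fun W hW => hA0 W (hW.trans hOV)⟩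
  have hd : Dense ((U ⊔ V : X.Opens) : Set X) := by
    intro y
    by_cases hy : y ∈ closure (U : Set X)
    · exact closure_mono (fun z hz => Or.inl hz) hy
    · exact subset_closure (Or.inr hy)
  refine ⟨extMod hs hgen hd, isInvertible_extMod hs hgen hd fun x hx => hufd x fun hxU => hx (Or.inl hxU), ?_⟩
  haveI := isIso_restrict_extι hs hgen hd (O := U) le_sup_left
  haveI : IsIso ((Scheme.Modules.restrictFunctor U.ι).map (biprod.fst : A ⊞ B ⟶ A)) := by
    rw [Scheme.Modules.Hom.isIso_iff_isIso_app]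
    intro W
    rw [ConcreteCategory.isIso_iff_bijective]
    haveI := hB0 (U.ι ''ᵁ W) (U.ι_image_le W)
    refine ⟨fun s t h => biprod_ext A B (V := U.ι ''ᵁ W) h (Subsingleton.elim _ _), fun a => ?_⟩
    obtain ⟨s, hs1, -⟩ := biprod_exists A B (V := U.ι ''ᵁ W) a 0
    exact ⟨s, hs1⟩
  exact ⟨asIso ((Scheme.Modules.restrictFunctor U.ι).map (extι hs hgen hd)) ≪≫
    asIso ((Scheme.Modules.restrictFunctor U.ι).map (biprod.fst : A ⊞ B ⟶ A)) ≪≫
    (Scheme.Modules.restrictFunctorAdjCounitIso U.ι).app L⟩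

end Groth.L21.Extend
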