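import Groth.Agent.L21.Extend.Split
import Mathlib.AlgebraicGeometry.Scheme
import Mathlib.RingTheory.UniqueFactorizationDomain.Basic
import Mathlib.RingTheory.UniqueFactorizationDomain.Multiplicity

/-!
Invertible modules on opens of the spectrum of a factorial domain are trivial.
-/

set_option autoImplicit false
universe u v

open CategoryTheory CategoryTheory.Limits AlgebraicGeometry TopologicalSpace Opposite

noncomputable section

namespace Groth.L21.Extend

section Algebra

variable {B : Type u} [CommRing B] [IsDomain B] [UniqueFactorizationMonoid B] {K : Type v} [Field K]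
  [Algebra B K] [IsFractionRing B K]

theorem algebraMap_ne_zero {b : B} (hb : b ≠ 0) : algebraMap B K b ≠ 0 := fun e =>
  hb (IsFractionRing.injective B K (e.trans (map_zero _).symm))

theorem exists_zpow_unitAt {π : B} (hπ : Prime π) {c : K} (hc : c ≠ 0) :
    ∃ n : ℤ, UnitAt (Ideal.span {π}) (algebraMap B K π ^ n / c) := by
  haveI : (Ideal.span {π}).IsPrime := (Ideal.span_singleton_prime hπ.ne_zero).mpr hπ
  have key : ∀ b : B, b ≠ 0 → ∃ (m : ℕ) (r : B), r ∉ Ideal.span {π} ∧ b = π ^ m * r := fun b hb => by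
    obtain ⟨m, r, hr, e⟩ := WfDvdMonoid.max_power_factor hb hπ.irreducible
    exact ⟨m, r, fun h => hr (Ideal.mem_span_singleton.mp h), e⟩
  obtain ⟨x, y, hy, rfl⟩ := IsFractionRing.div_surjective B c
  obtain ⟨hx0, hy0⟩ := div_ne_zero_iff.mp hc
  obtain ⟨m, r, hr, rfl⟩ := key x fun e => hx0 (by rw [e, map_zero])
  obtain ⟨m', r', hr', rfl⟩ := key y (nonZeroDivisors.ne_zero hy)
  refine ⟨(m : ℤ) - m', ?_⟩
  have hπK : algebraMap B K π ≠ 0 := algebraMap_ne_zero hπ.ne_zero
  have h : algebraMap B K π ^ ((m : ℤ) - m') / (algebraMap B K (π ^ m * r) / algebraMap B K (π ^ m' * r')) =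
      algebraMap B K r' * (algebraMap B K r)⁻¹ := by
    rw [map_mul, map_mul, map_pow, map_pow, zpow_sub₀ hπK, zpow_natCast, zpow_natCast]
    have := (unitAt_algebraMap (K := K) hr).1
    have := (unitAt_algebraMap (K := K) hr').1
    field_simp
  rw [h]
  exact unitAt_mul (unitAt_algebraMap hr') (unitAt_inv (unitAt_algebraMap hr))

theorem exists_prescribed_ufd {j : B} (hj : j ≠ 0) (c : Ideal B → K) (hc : ∀ p, c p ≠ 0) :
    ∃ f : K, f ≠ 0 ∧ ∀ π : B, Prime π →
      (π ∣ j → UnitAt (Ideal.span {π}) (f / c (Ideal.span {π}))) ∧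
      (¬ π ∣ j → UnitAt (Ideal.span {π}) f) := by
  classical
  obtain ⟨m, hm, hmj⟩ := UniqueFactorizationMonoid.exists_prime_factors j hj
  let S : Finset (Ideal B) := m.toFinset.image fun π => Ideal.span {π}
  have hS : ∀ p : S, ∃ π : B, Prime π ∧ π ∣ j ∧ Ideal.span {π} = p.1 := by
    rintro ⟨p, hp⟩
    obtain ⟨π, hπ, rfl⟩ := Finset.mem_image.mp hp
    rw [Multiset.mem_toFinset] at hπ
    exact ⟨π, hm π hπ, (Multiset.dvd_prod hπ).trans hmj.dvd, rfl⟩
  choose a ha hadvd hae using hS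
  choose n hn using fun p : S => exists_zpow_unitAt (ha p) (hc p.1)
  refine ⟨∏ p : S, algebraMap B K (a p) ^ n p,
    Finset.prod_ne_zero_iff.mpr fun p _ => zpow_ne_zero _ (algebraMap_ne_zero (ha p).ne_zero), fun π hπ => ?_⟩
  haveI : (Ideal.span {π}).IsPrime := (Ideal.span_singleton_prime hπ.ne_zero).mpr hπ
  have hother : ∀ p : S, p.1 ≠ Ideal.span {π} → UnitAt (Ideal.span {π}) (algebraMap B K (a p) ^ n p) :=
    fun p hne => unitAt_zpow (unitAt_algebraMap fun h => hne (by
      rw [← hae p]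
      exact Ideal.span_singleton_eq_span_singleton.mpr
        (hπ.associated_of_dvd (ha p) (Ideal.mem_span_singleton.mp h)).symm)) _
  refine ⟨fun hπj => ?_, fun hπj => unitAt_prod _ _ fun p _ => hother p fun e => hπj ?_⟩
  · obtain ⟨q, hq, hπq⟩ := hπ.exists_mem_multiset_dvd (hπj.trans hmj.symm.dvd)
    have he : Ideal.span {π} = Ideal.span {q} :=
      Ideal.span_singleton_eq_span_singleton.mpr (hπ.associated_of_dvd (hm q hq) hπq)
    have hmem : Ideal.span {π} ∈ S :=
      Finset.mem_image.mpr ⟨q, Multiset.mem_toFinset.mpr hq, he.symm⟩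
    rw [← Finset.mul_prod_erase Finset.univ _ (Finset.mem_univ (⟨_, hmem⟩ : S)), mul_div_right_comm]
    refine unitAt_mul ?_ (unitAt_prod _ _ fun p hp => hother p fun e =>
      (Finset.mem_erase.mp hp).1 (Subtype.ext e))
    have := hn ⟨_, hmem⟩
    rwa [hae] at this
  · have h := Ideal.span_singleton_eq_span_singleton.mp ((hae p).trans e)
    exact h.symm.dvd.trans (hadvd p)

theorem inLoc_of_forall_prime (P : Ideal B) [hP : P.IsPrime] (z : K)
    (hz : ∀ π : B, Prime π → π ∈ P → InLoc (Ideal.span {π}) z) : InLoc P z := by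
  obtain ⟨a, c, hc, rfl⟩ := IsFractionRing.div_surjective B z
  have hc0 := nonZeroDivisors.ne_zero hc
  obtain ⟨a', c', d, hno, ha', hc'⟩ := UniqueFactorizationMonoid.exists_reduced_factors' a c hc0
  have hd0 : d ≠ 0 := fun e => hc0 (by rw [← hc', e, zero_mul])
  have hc'0 : c' ≠ 0 := fun e => hc0 (by rw [← hc', e, mul_zero])
  have hzz : algebraMap B K a / algebraMap B K c = algebraMap B K a' / algebraMap B K c' := by
    rw [← ha', ← hc', map_mul, map_mul, mul_div_mul_left _ _ (algebraMap_ne_zero hd0)]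
  refine ⟨a', c', fun hcP => ?_, by rw [hzz, div_mul_cancel₀ _ (algebraMap_ne_zero hc'0)]⟩
  obtain ⟨m, hm, hmc⟩ := UniqueFactorizationMonoid.exists_prime_factors c' hc'0
  have hmP : m.prod ∈ P := Ideal.mem_of_dvd _ hmc.symm.dvd hcP
  obtain ⟨π, hπm, hπP⟩ := (hP.multiset_prod_mem_iff_exists_mem m).mp hmP
  obtain ⟨r, s, hs, e⟩ := hz π (hm π hπm) hπP
  have hπc : π ∣ c' := (Multiset.dvd_prod hπm).trans hmc.dvd
  rw [hzz, div_mul_eq_mul_div, div_eq_iff (algebraMap_ne_zero hc'0), ← map_mul, ← map_mul] at e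
  rcases (hm π hπm).dvd_or_dvd ((IsFractionRing.injective B K e) ▸ dvd_mul_of_dvd_right hπc r : π ∣ a' * s) with h | h
  · exact (hm π hπm).not_unit (hno h hπc)
  · exact hs (Ideal.mem_span_singleton.mpr h)

end Algebra

variable {X : Scheme.{u}} {U : X.Opens} {M : X.Modules}

theorem exists_isGen_of_chart (hs : SupportedOn M U) (hgen : GenOn M U) (C : Chart M U)
    [UniqueFactorizationMonoid Γ(X, C.W)] (hUW : U ≤ C.W) : ∃ e : Γ(M, U), IsGen M U e := by
  classical
  choose O hyO hOU g hg using hgen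
  let c : Ideal Γ(X, C.W) → C.F := fun p =>
    if hp : p.IsPrime then
      if hU : pt C.hW p ∈ U then
        C.crd (gen_mem_of_mem C.hW (pt_mem C.hW p) (hyO _ hU)) (g _ hU)
      else 1
    else 1
  have hgen' : GenOn M U := fun y hy => ⟨O y hy, hyO y hy, hOU y hy, g y hy, hg y hy⟩
  have hc0 : ∀ p, c p ≠ 0 := by
    intro p
    simp only [c]
    split_ifs with hp hU
    · exact C.crd_gen_ne_zero _ (hg _ hU)
    · exact one_ne_zero
    · exact one_ne_zero
  obtain ⟨f, hf0, hf⟩ := exists_prescribed_ufd (K := C.F) C.hj c hc0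
  have hgood : ∀ y (hy : y ∈ U) (N : X.Opens) (hyN : y ∈ N) (g' : Γ(M, N)), IsGen M N g' →
      UnitAt (pr C.hW (hUW hy)) (f / C.crd (gen_mem_of_mem C.hW (hUW hy) hyN) g') := by
    intro y hy N hyN g' hg'
    have hne : f / C.crd (gen_mem_of_mem C.hW (hUW hy) hyN) g' ≠ 0 :=
      div_ne_zero hf0 (C.crd_gen_ne_zero _ hg')
    have key : ∀ π : Γ(X, C.W), Prime π → π ∈ pr C.hW (hUW hy) →
        UnitAt (Ideal.span {π}) (f / C.crd (gen_mem_of_mem C.hW (hUW hy) hyN) g') := by
      intro π hπ hπy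
      haveI hπp : (Ideal.span {π}).IsPrime := (Ideal.span_singleton_prime hπ.ne_zero).mpr hπ
      have hle : Ideal.span {π} ≤ pr C.hW (hUW hy) := (Ideal.span_singleton_le_iff_mem _).mpr hπy
      have hpU : pt C.hW (Ideal.span {π}) ∈ U := mem_of_le C.hW (hUW hy) hy hle
      have hpN : pt C.hW (Ideal.span {π}) ∈ N := mem_of_le C.hW (hUW hy) hyN hle
      have h1 := C.unitAt_div (pt_mem C.hW _) hpN (hyO _ hpU) hg' (hg _ hpU)
      rw [pr_pt C.hW] at h1
      have hcπ : c (Ideal.span {π}) = C.crd (gen_mem_of_mem C.hW (pt_mem C.hW _) (hyO _ hpU)) (g _ hpU) := by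
        simp only [c, dif_pos hπp, dif_pos hpU]
      by_cases hj : π ∣ C.j
      · have h2 := unitAt_mul ((hf π hπ).1 hj) (hcπ ▸ h1)
        rwa [div_mul_div_cancel₀ (hc0 _)] at h2
      · have hpD : pt C.hW (Ideal.span {π}) ∈ X.basicOpen C.j := by
          rw [mem_basicOpen C.hW (pt_mem C.hW _), pr_pt C.hW]
          exact fun h => hj (Ideal.mem_span_singleton.mp h)
        have h2 := C.unitAt_div (pt_mem C.hW _) hpN hpD hg' C.he
        rw [pr_pt C.hW, C.crd_e, one_div] at h2
        rw [div_eq_mul_inv]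
        exact unitAt_mul ((hf π hπ).2 hj) h2
    refine ⟨hne, inLoc_of_forall_prime _ _ fun π hπ hπy => (key π hπ hπy).2.1,
      inLoc_of_forall_prime _ _ fun π hπ hπy => (key π hπ hπy).2.2⟩
  obtain ⟨s, hsf⟩ := C.exists_of_crd hs hgen' hUW f fun y hy hyU =>
    ⟨O y hy, hyO y hy, g y hy, hg y hy, (hgood y hy _ (hyO y hy) _ (hg y hy)).2.1⟩
  refine ⟨s, fun V hV => ⟨fun a a' haa => ?_, fun r => ?_⟩⟩
  · refine (sec_eq_iff C.hW (hV.trans hUW) a a').mpr fun hη => ?_
    have h2 := congrArg (C.crd hη) haa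
    simp only [C.crd_smul, C.crd_res, hsf] at h2
    exact mul_right_cancel₀ hf0 h2
  · let z : C.F := if hη : C.η ∈ V then C.crd hη r / f else 0
    have hall : ∀ y (hy : y ∈ V), InLoc (pr C.hW (hUW (hV hy))) z := by
      intro y hy
      have hη : C.η ∈ V := gen_mem_of_mem C.hW (hUW (hV hy)) hy
      have h1 := inLoc_mul (C.inLoc_div (hUW (hV hy)) (hyO y (hV hy)) hy (hg y (hV hy)) r)
        (unitAt_inv (hgood y (hV hy) _ (hyO y (hV hy)) _ (hg y (hV hy)))).2.1
      rw [inv_div, div_mul_div_cancel₀ (C.crd_gen_ne_zero _ (hg y (hV hy)))] at h1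
      simpa only [z, dif_pos hη] using h1
    obtain ⟨a, ha⟩ := exists_sec C.hW (hV.trans hUW) z hall
    refine ⟨a, C.eq_of_crd hs hgen' (hV.trans hUW) _ _ fun hη => ?_⟩
    rw [C.crd_smul, C.crd_res, hsf, ha hη]
    simp only [z, dif_pos hη]
    rw [div_mul_cancel₀ _ hf0]

theorem nonempty_iso_structureModule_of_ufd (R : Type u) [CommRing R] [IsDomain R]
    [UniqueFactorizationMonoid R] (U : (Spec (CommRingCat.of R)).Opens) (L : (U : Scheme.{u}).Modules)
    (hL : PicF.IsInvertible L) : Nonempty (L ≅ Coh.structureModule (U : Scheme.{u})) := by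
  let M := (Scheme.Modules.pushforward U.ι).obj L
  have hs : SupportedOn M U := supportedOn_pushforward le_rfl L
  have hgen : GenOn M U := genOn_pushforward L hL
  obtain ⟨e, he⟩ : ∃ e : Γ(M, U), IsGen M U e := by
    by_cases hne : ∃ y, y ∈ U
    · obtain ⟨y, hy⟩ := hne
      let W : (Spec (CommRingCat.of R)).Opens := ⊤
      have hW : IsAffineOpen W := isAffineOpen_top _
      let ε := (Scheme.ΓSpecIso (CommRingCat.of R)).commRingCatIsoToRingEquiv
      haveI : IsDomain Γ(Spec (CommRingCat.of R), W) := ε.toMulEquiv.isDomain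
      haveI : UniqueFactorizationMonoid Γ(Spec (CommRingCat.of R), W) :=
        ε.symm.toMulEquiv.uniqueFactorizationMonoid inferInstance
      obtain ⟨O, hO, hOU, g, hg⟩ := hgen _ (gen_mem_of_mem hW (show y ∈ W from trivial) hy)
      obtain ⟨j, hjO, hjη⟩ := hW.exists_basicOpen_le (V := O) ⟨gen hW, hO⟩ (gen_mem hW)
      have hj : j ≠ 0 := by
        intro h
        have h2 := (mem_basicOpen hW (gen_mem hW) j).mp hjη
        rw [h] at h2
        exact h2 (Ideal.zero_mem _)
      let C : Chart M U := ⟨W, hW, inferInstance, j, hj, hjO.trans hOU, rs M hjO g, hg.restrict M hjO⟩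
      haveI : UniqueFactorizationMonoid Γ(Spec (CommRingCat.of R), C.W) := ‹_›
      exact exists_isGen_of_chart hs hgen C le_top
    · refine ⟨0, fun V hV => ?_⟩
      haveI : Subsingleton Γ(M, V) := subsingleton_bot M fun y hy => hne ⟨y, hV hy⟩
      haveI : Subsingleton Γ(Spec (CommRingCat.of R), V) := subsingleton_bot (Coh.structureModule _) fun y hy => hne ⟨y, hV hy⟩
      exact ⟨fun a b _ => Subsingleton.elim a b, fun m => ⟨0, Subsingleton.elim _ _⟩⟩
  obtain ⟨i⟩ := exists_iso_of_isGen M he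
  exact ⟨((Scheme.Modules.restrictFunctorAdjCounitIso U.ι).app L).symm ≪≫ i⟩

end Groth.L21.Extend
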