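import Groth.Agent.L21.Extend.Coord
import Groth.Agent.L21.Curve.SmoothDescent
import Mathlib.Algebra.Category.ModuleCat.Presheaf.Submodule

/-!
Invertible modules extend across points with factorial local rings.
-/

set_option autoImplicit false
universe u

open CategoryTheory AlgebraicGeometry TopologicalSpace Opposite

noncomputable section

namespace Groth.L21.Extend

variable {X : Scheme.{u}} [IsLocallyNoetherian X] {U : X.Opens} {M : X.Modules}

instance (C : Chart M U) : IsNoetherianRing Γ(X, C.W) :=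
  IsLocallyNoetherian.component_noetherian ⟨C.W, C.hW⟩

theorem exists_chart (hgen : GenOn M U) (hd : Dense (U : Set X)) (x : X)
    [IsDomain (X.presheaf.stalk x)] : ∃ C : Chart M U, x ∈ C.W := by
  obtain ⟨W, hW, hxW, hdom⟩ := Groth.L21.SmoothDescent.exists_isAffineOpen_isDomain x
  haveI := hdom
  haveI : IsNoetherianRing Γ(X, W) := IsLocallyNoetherian.component_noetherian ⟨W, hW⟩
  obtain ⟨y, hyW, hyU⟩ := hd.inter_open_nonempty W W.isOpen ⟨x, hxW⟩
  have hg : gen hW ∈ U := gen_mem_of_mem hW hyW hyU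
  obtain ⟨O, hO, hOU, g, hgg⟩ := hgen _ hg
  obtain ⟨j, hjO, hjη⟩ := hW.exists_basicOpen_le (V := O) ⟨gen hW, hO⟩ (gen_mem hW)
  refine ⟨⟨W, hW, hdom, j, ?_, hjO.trans hOU, rs M hjO g, hgg.restrict M hjO⟩, hxW⟩
  intro h
  have h2 := (mem_basicOpen hW (gen_mem hW) j).mp hjη
  rw [h] at h2
  exact h2 (Ideal.zero_mem _)

/-- A point outside `U` with a discrete valuation ring as stalk. -/
def IsBad (U : X.Opens) (y : X) : Prop :=
  y ∉ U ∧ ∃ _ : IsDomain (X.presheaf.stalk y), IsDiscreteValuationRing (X.presheaf.stalk y)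

theorem exists_extData (hs : SupportedOn M U) (hgen : GenOn M U) (hd : Dense (U : Set X)) {y : X}
    (hy : IsBad U y) :
    ∃ (N : X.Opens) (_ : y ∈ N) (e : Γ(M, N)), IsGen M (N ⊓ U) (rs M inf_le_left e) := by
  classical
  obtain ⟨hyU, hdom, hdvr⟩ := hy
  haveI := hdom
  obtain ⟨C, hyW⟩ := exists_chart hgen hd y
  set p := pr C.hW hyW
  have hH : IsH1 p := (isH1_iff C.hW hyW).mpr ⟨hdom, hdvr⟩
  have hjp : C.j ∈ p := by
    by_contra h
    exact hyU (C.hjU ((mem_basicOpen C.hW hyW C.j).mpr h))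
  have hmin := mem_minimalPrimes_of_isH1 hH C.hj hjp
  have hfin := Ideal.finite_minimalPrimes_of_isNoetherianRing Γ(X, C.W) (Ideal.span {C.j})
  have hne : ∀ q : {q // q ∈ hfin.toFinset.erase p}, ∃ b, b ∈ (q.1 : Ideal Γ(X, C.W)) ∧ b ∉ p := by
    rintro ⟨q, hq⟩
    obtain ⟨hqp, hq⟩ := Finset.mem_erase.mp hq
    have hq' := hfin.mem_toFinset.mp hq
    have : ¬ q ≤ p := fun h => hqp (le_antisymm h (hmin.2 hq'.1 h))
    exact SetLike.not_le_iff_exists.mp this
  choose b hb hbp using hne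
  let h : Γ(X, C.W) := ∏ q, b q
  have hhp : h ∉ p := fun hh => by
    obtain ⟨q, -, hq⟩ := ((inferInstance : p.IsPrime).prod_mem_iff).mp hh
    exact hbp q hq
  have hyN : y ∈ X.basicOpen h := (mem_basicOpen C.hW hyW h).mpr hhp
  have hNU : X.basicOpen h ⊓ U ≤ X.basicOpen C.j := by
    rintro z ⟨hzh, hzU⟩
    have hzW : z ∈ C.W := X.basicOpen_le h hzh
    replace hzh := (mem_basicOpen C.hW hzW h).mp hzh
    refine (mem_basicOpen C.hW hzW C.j).mpr ?_
    intro hjz
    obtain ⟨q, hq, hqz⟩ := Ideal.exists_minimalPrimes_le ((Ideal.span_singleton_le_iff_mem _).mpr hjz)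
    rcases eq_or_ne q p with rfl | hqp
    · have := mem_of_le C.hW hzW hzU hqz
      rw [pt_pr C.hW hyW] at this
      exact hyU this
    · have hq' : q ∈ hfin.toFinset.erase p := Finset.mem_erase.mpr ⟨hqp, hfin.mem_toFinset.mpr hq⟩
      exact hzh (Ideal.mem_of_dvd _ (Finset.dvd_prod_of_mem b (Finset.mem_univ ⟨q, hq'⟩)) (hqz (hb ⟨q, hq'⟩)))
  obtain ⟨e, he⟩ := (hs (X.basicOpen h)).2 (rs M hNU C.e)
  refine ⟨X.basicOpen h, hyN, e, ?_⟩
  rw [show rs M inf_le_left e = rs M hNU C.e from he]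
  exact C.he.restrict M hNU

variable (hs : SupportedOn M U) (hgen : GenOn M U) (hd : Dense (U : Set X))

/-- The chosen neighbourhood of a bad point. -/
def extN {y : X} (hy : IsBad U y) : X.Opens := (exists_extData hs hgen hd hy).choose

theorem mem_extN {y : X} (hy : IsBad U y) : y ∈ extN hs hgen hd hy :=
  (exists_extData hs hgen hd hy).choose_spec.choose

/-- The chosen local extension at a bad point. -/
def extE {y : X} (hy : IsBad U y) : Γ(M, extN hs hgen hd hy) :=
  (exists_extData hs hgen hd hy).choose_spec.choose_spec.choose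

theorem isGen_extE {y : X} (hy : IsBad U y) :
    IsGen M (extN hs hgen hd hy ⊓ U) (rs M inf_le_left (extE hs hgen hd hy)) :=
  (exists_extData hs hgen hd hy).choose_spec.choose_spec.choose_spec

/-- A section is a multiple of the chosen extension near a bad point. -/
def ExtAt {V : X.Opens} (s : Γ(M, V)) {y : X} (hy : IsBad U y) : Prop :=
  ∃ (N : X.Opens) (hNV : N ≤ V) (hNE : N ≤ extN hs hgen hd hy), y ∈ N ∧
    ∃ a : Γ(X, N), a • rs M hNE (extE hs hgen hd hy) = rs M hNV s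

theorem extAt_res {V V' : X.Opens} (h : V' ≤ V) (s : Γ(M, V)) {y : X} (hy : IsBad U y)
    (hyV : y ∈ V') (hx : ExtAt hs hgen hd s hy) : ExtAt hs hgen hd (rs M h s) hy := by
  obtain ⟨N, hNV, hNE, hyN, a, ha⟩ := hx
  refine ⟨N ⊓ V', inf_le_right, inf_le_left.trans hNE, ⟨hyN, hyV⟩, rO X inf_le_left a, ?_⟩
  rw [← rs_rs M (inf_le_left : N ⊓ V' ≤ N) hNE, ← rs_smul, ha, rs_rs, rs_rs]

theorem extAt_of_res {V V' : X.Opens} (h : V' ≤ V) (s : Γ(M, V)) {y : X} (hy : IsBad U y)
    (hx : ExtAt hs hgen hd (rs M h s) hy) : ExtAt hs hgen hd s hy := by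
  obtain ⟨N, hNV, hNE, hyN, a, ha⟩ := hx
  exact ⟨N, hNV.trans h, hNE, hyN, a, by rw [ha, rs_rs]⟩

/-- The extension of the module as a submodule. -/
def extSub : PresheafOfModules.Submodule M.val where
  obj V :=
    { carrier := {s : Γ(M, V.unop) | ∀ (y : X) (hy : IsBad U y), y ∈ V.unop → ExtAt hs hgen hd s hy}
      zero_mem' := fun y hy hyV => ⟨V.unop ⊓ extN hs hgen hd hy, inf_le_left, inf_le_right,
        ⟨hyV, mem_extN hs hgen hd hy⟩, 0, by rw [zero_smul]; exact (map_zero _).symm⟩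
      add_mem' := fun {s t} h1 h2 y hy hyV => by
        obtain ⟨N, hNV, hNE, hyN, a, ha⟩ := h1 y hy hyV
        obtain ⟨N', hNV', hNE', hyN', b, hb⟩ := h2 y hy hyV
        refine ⟨N ⊓ N', inf_le_left.trans hNV, inf_le_left.trans hNE, ⟨hyN, hyN'⟩,
          rO X inf_le_left a + rO X inf_le_right b, ?_⟩
        have e1 := congrArg (rs M (inf_le_left : N ⊓ N' ≤ N)) ha
        have e2 := congrArg (rs M (inf_le_right : N ⊓ N' ≤ N')) hb
        rw [rs_smul, rs_rs, rs_rs] at e1 e2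
        rw [add_smul, e1, e2]
        exact (map_add _ _ _).symm
      smul_mem' := fun r s h1 y hy hyV => by
        obtain ⟨N, hNV, hNE, hyN, a, ha⟩ := h1 y hy hyV
        refine ⟨N, hNV, hNE, hyN, rO X hNV r * a, ?_⟩
        rw [mul_smul, ha]
        exact (rs_smul M hNV r s).symm }
  map {V V'} f s hs' y hy hyV := extAt_res hs hgen hd f.unop.le s hy hyV (hs' y hy (f.unop.le hyV))

/-- The extension of the module as a sheaf. -/
def extMod : X.Modules :=
  ⟨(extSub hs hgen hd).toPresheafOfModules, by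
    refine (TopCat.Presheaf.isSheaf_iff_isSheafUniqueGluing _).mpr ?_
    intro ι N sf hsf
    obtain ⟨t, ht, huniq⟩ := TopCat.Sheaf.existsUnique_gluing (⟨M.presheaf, M.isSheaf⟩ : TopCat.Sheaf Ab X.toTopCat)
      N (fun i => (sf i).val) (fun i k => congrArg Subtype.val (hsf i k))
    refine ⟨⟨t, fun y hy hyV => ?_⟩, fun i => Subtype.ext (ht i), fun t' ht' => Subtype.ext
      (huniq t'.val fun i => congrArg Subtype.val (ht' i))⟩
    obtain ⟨i, hi⟩ := Opens.mem_iSup.mp hyV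
    refine extAt_of_res hs hgen hd (le_iSup N i) t hy ?_
    rw [show rs M (le_iSup N i) t = (sf i).val from ht i]
    exact (sf i).property y hy hi⟩

/-- The inclusion of the extension. -/
def extι : extMod hs hgen hd ⟶ M := ⟨(extSub hs hgen hd).ι⟩

theorem extι_injective (V : X.Opens) : Function.Injective ((extι hs hgen hd).app V) :=
  Subtype.val_injective

theorem exists_extι_eq {V : X.Opens} (s : Γ(M, V))
    (h : ∀ (y : X) (hy : IsBad U y), y ∈ V → ExtAt hs hgen hd s hy) :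
    ∃ t : Γ(extMod hs hgen hd, V), (extι hs hgen hd).app V t = s :=
  ⟨⟨s, h⟩, rfl⟩

theorem extAt_extι {V : X.Opens} (t : Γ(extMod hs hgen hd, V)) {y : X} (hy : IsBad U y) (hyV : y ∈ V) :
    ExtAt hs hgen hd ((extι hs hgen hd).app V t) hy :=
  Subtype.property t y hy hyV

theorem extι_rs {V V' : X.Opens} (h : V' ≤ V) (t : Γ(extMod hs hgen hd, V)) :
    (extι hs hgen hd).app V' (rs (extMod hs hgen hd) h t) = rs M h ((extι hs hgen hd).app V t) :=
  ConcreteCategory.congr_hom ((extι hs hgen hd).mapPresheaf.naturality (homOfLE h).op) t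

theorem isIso_restrict_extι {O : X.Opens} (hO : O ≤ U) :
    IsIso ((Scheme.Modules.restrictFunctor O.ι).map (extι hs hgen hd)) := by
  rw [Scheme.Modules.Hom.isIso_iff_isIso_app]
  intro V
  rw [ConcreteCategory.isIso_iff_bijective]
  refine ⟨extι_injective hs hgen hd (O.ι ''ᵁ V), fun s => ?_⟩
  exact exists_extι_eq hs hgen hd (V := O.ι ''ᵁ V) s fun y hy hyV =>
    absurd (hO (O.ι_image_le V hyV)) hy.1

theorem exists_gen_of_chart (hufd : ∀ x : X, x ∉ U → UniqueFactorizationMonoid (X.presheaf.stalk x))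
    (C : Chart M U) {x : X} (hxW : x ∈ C.W) (hxU : x ∉ U) :
    ∃ (W' : X.Opens) (_ : x ∈ W') (t : Γ(extMod hs hgen hd, W')),
      IsGen (extMod hs hgen hd) W' t := by
  classical
  haveI := ufm_localization C.hW hxW (hufd x hxU)
  set P := pr C.hW hxW
  -- coefficients of the chosen generators
  have hηN : ∀ {y : X} (hyW : y ∈ C.W) (hy : IsBad U y), C.η ∈ extN hs hgen hd hy := fun hyW hy =>
    gen_mem_of_mem C.hW hyW (mem_extN hs hgen hd hy)
  let c : Ideal Γ(X, C.W) → C.F := fun p =>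
    if hp : p.IsPrime then
      if hU : pt C.hW p ∈ U then
        C.crd (gen_mem_of_mem C.hW (pt_mem C.hW p) (hgen _ hU).choose_spec.choose)
          (hgen _ hU).choose_spec.choose_spec.choose_spec.choose
      else if hb : IsBad U (pt C.hW p) then
        C.crd (hηN (pt_mem C.hW p) hb) (extE hs hgen hd hb)
      else 1
    else 1
  have hgη : ∀ {y : X} (hyW : y ∈ C.W) (hy : IsBad U y),
      C.crd (hηN hyW hy) (extE hs hgen hd hy) ≠ 0 := fun hyW hy => by
    have h := C.crd_gen_ne_zero (show C.η ∈ extN hs hgen hd hy ⊓ U from ⟨hηN hyW hy, C.η_memU⟩) (isGen_extE hs hgen hd hy)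
    rwa [C.crd_res] at h
  have hc0 : ∀ p, c p ≠ 0 := by
    intro p
    simp only [c]
    split_ifs with hp hU hb
    · exact C.crd_gen_ne_zero _ (hgen _ hU).choose_spec.choose_spec.choose_spec.choose_spec
    · exact hgη (pt_mem C.hW p) hb
    · exact one_ne_zero
    · exact one_ne_zero
  have hcU : ∀ (y : X) (hyW : y ∈ C.W), y ∈ U → ∀ (O : X.Opens) (hyO : y ∈ O) (g : Γ(M, O)), IsGen M O g →
      UnitAt (pr C.hW hyW) (c (pr C.hW hyW) / C.crd (gen_mem_of_mem C.hW hyW hyO) g) := by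
    intro y hyW hyU O hyO g hg
    have hU : pt C.hW (pr C.hW hyW) ∈ U := by rwa [pt_pr]
    simp only [c, dif_pos (inferInstance : (pr C.hW hyW).IsPrime), dif_pos hU]
    exact C.unitAt_div hyW hyO (by simpa only [pt_pr] using (hgen _ hU).choose_spec.choose) hg
      (hgen _ hU).choose_spec.choose_spec.choose_spec.choose_spec
  have hcB : ∀ (y : X) (hyW : y ∈ C.W) (hy : IsBad U y),
      c (pr C.hW hyW) = C.crd (hηN hyW hy) (extE hs hgen hd hy) := by
    intro y hyW hy
    have hb : IsBad U (pt C.hW (pr C.hW hyW)) := by rwa [pt_pr]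
    simp only [c, dif_pos (inferInstance : (pr C.hW hyW).IsPrime), dif_neg hb.1, dif_pos hb]
    have key : ∀ (z : X) (hzW : z ∈ C.W) (hz : IsBad U z), z = y →
        C.crd (hηN hzW hz) (extE hs hgen hd hz) = C.crd (hηN hyW hy) (extE hs hgen hd hy) := by
      rintro z hzW hz rfl; rfl
    exact key _ (pt_mem C.hW _) hb (pt_pr C.hW hyW)
  obtain ⟨f, hf0, hf⟩ := exists_prescribed (K := C.F) P C.hj c hc0
  have hfc : ∀ p, IsH1 p → p ≤ P → UnitAt p (f / c p) := by
    intro p hp hle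
    haveI := hp.1
    by_cases hj : C.j ∈ p
    · exact (hf p hp hle).1 hj
    · have hptj : pt C.hW p ∈ X.basicOpen C.j := by
        rw [mem_basicOpen C.hW (pt_mem C.hW p), pr_pt C.hW p]; exact hj
      have h1 := hcU _ (pt_mem C.hW p) (C.hjU hptj) _ hptj _ C.he
      rw [C.crd_e, div_one, pr_pt C.hW p] at h1
      exact div_eq_mul_inv f (c p) ▸ unitAt_mul ((hf p hp hle).2 hj) (unitAt_inv h1)
  -- comparison with finitely many generators on the part of the chart inside `U`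
  have hcov : ∀ y : (C.W ⊓ U : X.Opens), ∃ (b : Γ(X, C.W)) (O : X.Opens) (g : Γ(M, O)),
      y.1 ∈ X.basicOpen b ∧ X.basicOpen b ≤ O ∧ X.basicOpen b ≤ U ∧ IsGen M O g := by
    rintro ⟨y, hyW, hyU⟩
    obtain ⟨O, hyO, hOU, g, hg⟩ := hgen y hyU
    obtain ⟨b, hbO, hyb⟩ := C.hW.exists_basicOpen_le (V := O) ⟨y, hyO⟩ hyW
    exact ⟨b, O, g, hyb, hbO, hbO.trans hOU, hg⟩
  choose b O g hyb hbO hbU hg using hcov
  have hcomp : IsCompact ((C.W ⊓ U : X.Opens) : Set X) := by
    haveI : NoetherianSpace (Spec Γ(X, C.W)) := inferInstanceAs (NoetherianSpace (PrimeSpectrum Γ(X, C.W)))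
    have h : IsCompact (C.hW.fromSpec '' (C.hW.fromSpec ⁻¹' (U : Set X))) :=
      (NoetherianSpace.isCompact _).image C.hW.fromSpec.continuous
    rw [Set.image_preimage_eq_inter_range, C.hW.range_fromSpec, Set.inter_comm] at h
    exact h
  obtain ⟨T, hT⟩ := hcomp.elim_finite_subcover (fun y => (X.basicOpen (b y) : Set X))
    (fun y => (X.basicOpen (b y)).isOpen) fun y hy => Set.mem_iUnion.mpr ⟨⟨y, hy⟩, hyb ⟨y, hy⟩⟩
  have hηO : ∀ y, C.η ∈ O y := fun y =>
    gen_mem_of_mem C.hW (X.basicOpen_le _ (hyb y)) (hbO y (hyb y))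
  have hcomparison : ∀ y, ∃ h ∉ P, ∀ q : Ideal Γ(X, C.W), q.IsPrime → h * b y ∉ q →
      UnitAt q (f / C.crd (hηO y) (g y)) := by
    intro y
    have hne : f / C.crd (hηO y) (g y) ≠ 0 := div_ne_zero hf0 (C.crd_gen_ne_zero _ (hg y))
    have key : ∀ p : Ideal Γ(X, C.W), IsH1 p → p ≤ P → b y ∉ p → UnitAt p (f / C.crd (hηO y) (g y)) := by
      intro p hp hle hb
      haveI := hp.1
      have hpb : pt C.hW p ∈ X.basicOpen (b y) := by
        rw [mem_basicOpen C.hW (pt_mem C.hW p), pr_pt C.hW p]; exact hb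
      have h1 := hcU _ (pt_mem C.hW p) (hbU y hpb) (O y) (hbO y hpb) (g y) (hg y)
      rw [pr_pt C.hW p] at h1
      have h2 := unitAt_mul (hfc p hp hle) h1
      rwa [div_mul_div_cancel₀ (hc0 p)] at h2
    obtain ⟨h₁, hh₁, H₁⟩ := exists_pow_of_forall_isH1 P (b y) _ fun p hp hle hb => (key p hp hle hb).2.1
    obtain ⟨h₂, hh₂, H₂⟩ := exists_pow_of_forall_isH1 P (b y) _ fun p hp hle hb => (key p hp hle hb).2.2
    refine ⟨h₁ * h₂, fun h => ((inferInstance : P.IsPrime).mem_or_mem h).elim hh₁ hh₂, fun q hq hq' =>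
      ⟨hne, H₁ q hq fun h => hq' ?_, H₂ q hq fun h => hq' ?_⟩⟩
    · rw [mul_right_comm]; exact q.mul_mem_right _ h
    · rw [mul_assoc]; exact q.mul_mem_left _ h
  choose h hhP hh using hcomparison
  have hfin := Ideal.finite_minimalPrimes_of_isNoetherianRing Γ(X, C.W) (Ideal.span {C.j})
  have hk : ∀ q : Ideal Γ(X, C.W), ∃ k, k ∉ P ∧ (¬ q ≤ P → k ∈ q) := by
    intro q
    by_cases hq : q ≤ P
    · exact ⟨1, P.one_notMem, fun h => absurd hq h⟩
    · obtain ⟨k, hk, hkP⟩ := SetLike.not_le_iff_exists.mp hq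
      exact ⟨k, hkP, fun _ => hk⟩
  choose k hkP hk using hk
  let H : Γ(X, C.W) := (∏ y ∈ T, h y) * ∏ q ∈ hfin.toFinset, k q
  have hHP : H ∉ P := fun hH => ((inferInstance : P.IsPrime).mem_or_mem hH).elim
    (fun h' => by obtain ⟨y, -, hy⟩ := ((inferInstance : P.IsPrime).prod_mem_iff).mp h'; exact hhP y hy)
    (fun h' => by obtain ⟨y, -, hy⟩ := ((inferInstance : P.IsPrime).prod_mem_iff).mp h'; exact hkP y hy)
  have hW'W : X.basicOpen H ≤ C.W := X.basicOpen_le H
  have hgood : ∀ y (hy : y ∈ X.basicOpen H), y ∈ U ∨ IsBad U y →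
      UnitAt (pr C.hW (hW'W hy)) (f / c (pr C.hW (hW'W hy))) := by
    intro y hy hcase
    have hHy := (mem_basicOpen C.hW (hW'W hy) H).mp hy
    rcases hcase with hyU | hyB
    · obtain ⟨i, hi⟩ := Set.mem_iUnion.mp (hT ⟨hW'W hy, hyU⟩)
      obtain ⟨hiT, hyi⟩ := Set.mem_iUnion.mp hi
      have hbi := (mem_basicOpen C.hW (hW'W hy) (b i)).mp hyi
      have h1 := hh i _ inferInstance fun h' => ((inferInstance : (pr C.hW (hW'W hy)).IsPrime).mem_or_mem h').elim
        (fun h'' => hHy (Ideal.mul_mem_right _ _ (Ideal.mem_of_dvd _ (Finset.dvd_prod_of_mem h hiT) h''))) hbi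
      have h2 := unitAt_inv (hcU y (hW'W hy) hyU (O i) (hbO i hyi) (g i) (hg i))
      have h3 := unitAt_mul h1 h2
      rw [inv_div, div_mul_div_cancel₀ (C.crd_gen_ne_zero _ (hg i))] at h3
      exact h3
    · obtain ⟨_, hdvr⟩ := hyB.2
      have hH1 : IsH1 (pr C.hW (hW'W hy)) := (isH1_iff C.hW (hW'W hy)).mpr ⟨_, hdvr⟩
      refine hfc _ hH1 ?_
      by_contra hle
      have hjy : C.j ∈ pr C.hW (hW'W hy) := by
        by_contra hj
        exact hyB.1 (C.hjU ((mem_basicOpen C.hW (hW'W hy) C.j).mpr hj))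
      have hmem := hfin.mem_toFinset.mpr (mem_minimalPrimes_of_isH1 hH1 C.hj hjy)
      exact hHy (Ideal.mul_mem_left _ _ (Ideal.mem_of_dvd _ (Finset.dvd_prod_of_mem k hmem) (hk _ hle)))
  obtain ⟨s, hsf⟩ := C.exists_of_crd hs hgen hW'W f fun y hy hyU => by
    obtain ⟨O', hyO', -, g', hg'⟩ := hgen y hyU
    refine ⟨O', hyO', g', hg', ?_⟩
    have h1 := unitAt_mul (hgood y hy (Or.inl hyU)) (hcU y (hW'W hy) hyU O' hyO' g' hg')
    rw [div_mul_div_cancel₀ (hc0 _)] at h1
    exact h1.2.1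
  have hext : ∀ (y : X) (hy : IsBad U y), y ∈ X.basicOpen H → ExtAt hs hgen hd s hy := by
    intro y hy hyH
    have h1 := (hgood y hyH (Or.inr hy)).2.1
    rw [hcB y (hW'W hyH) hy] at h1
    obtain ⟨N, hN, hyN, a, ha⟩ := exists_nhd C.hW (V := X.basicOpen H ⊓ extN hs hgen hd hy)
      (inf_le_left.trans hW'W) ⟨hyH, mem_extN hs hgen hd hy⟩ h1
    refine ⟨N, hN.trans inf_le_left, hN.trans inf_le_right, hyN, a, ?_⟩
    refine C.eq_of_crd hs hgen ((hN.trans inf_le_left).trans hW'W) _ _ fun hη => ?_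
    rw [C.crd_smul, C.crd_res, C.crd_res, hsf, show sec C.hW hη a = _ from ha, div_mul_cancel₀ _ (hgη (hW'W hyH) hy)]
  obtain ⟨t, ht⟩ := exists_extι_eq hs hgen hd s hext
  refine ⟨X.basicOpen H, (mem_basicOpen C.hW hxW H).mpr hHP, t, fun V hV => ⟨fun a a' haa => ?_, fun r => ?_⟩⟩
  · have h1 := congrArg ((extι hs hgen hd).app V) haa
    simp only [Scheme.Modules.Hom.app_smul] at h1
    rw [extι_rs, ht] at h1
    refine (sec_eq_iff C.hW (hV.trans hW'W) a a').mpr fun hη => ?_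
    have h2 := congrArg (C.crd hη) h1
    rw [C.crd_smul, C.crd_smul, C.crd_res, hsf] at h2
    exact mul_right_cancel₀ hf0 h2
  · let r' := (extι hs hgen hd).app V r
    let z : C.F := if hη : C.η ∈ V then C.crd hη r' / f else 0
    have hzy : ∀ y (hy : y ∈ V), y ∈ U ∨ IsBad U y → InLoc (pr C.hW (hW'W (hV hy))) z := by
      intro y hy hcase
      have hη : C.η ∈ V := gen_mem_of_mem C.hW (hW'W (hV hy)) hy
      have hfy := unitAt_inv (hgood y (hV hy) hcase)
      have hkey : InLoc (pr C.hW (hW'W (hV hy))) (C.crd hη r' / c (pr C.hW (hW'W (hV hy)))) := by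
        rcases hcase with hyU | hyB
        · obtain ⟨O', hyO', -, g', hg'⟩ := hgen y hyU
          have h1 := inLoc_mul (C.inLoc_div (hW'W (hV hy)) hyO' hy hg' r')
            (unitAt_inv (hcU y (hW'W (hV hy)) hyU O' hyO' g' hg')).2.1
          rwa [inv_div, div_mul_div_cancel₀ (C.crd_gen_ne_zero _ hg')] at h1
        · obtain ⟨N, hNV, hNE, hyN, a, ha⟩ := extAt_extι hs hgen hd r hyB hy
          have hηN' : C.η ∈ N := gen_mem_of_mem C.hW (hW'W (hV hy)) hyN
          have h1 := congrArg (C.crd hηN') ha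
          rw [C.crd_smul, C.crd_res, C.crd_res] at h1
          rw [hcB y (hW'W (hV hy)) hyB, show C.crd hη r' = _ from h1.symm, mul_div_assoc,
            div_self (hgη (hW'W (hV hy)) hyB), mul_one]
          exact inLoc_sec C.hW (hW'W (hV hy)) hyN a
      have h2 := inLoc_mul hkey hfy.2.1
      rw [inv_div, div_mul_div_cancel₀ (hc0 _)] at h2
      simpa only [z, dif_pos hη] using h2
    have hall : ∀ y (hy : y ∈ V), InLoc (pr C.hW (hW'W (hV hy))) z := by
      intro y hy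
      by_cases hyU : y ∈ U
      · exact hzy y hy (Or.inl hyU)
      haveI := ufm_localization C.hW (hW'W (hV hy)) (hufd y hyU)
      refine inLoc_of_forall_isH1 _ z fun p hp hle => ?_
      haveI := hp.1
      have hpV : pt C.hW p ∈ V := mem_of_le C.hW (hW'W (hV hy)) hy hle
      have h1 := hzy _ hpV (by
        by_cases hpU : pt C.hW p ∈ U
        · exact Or.inl hpU
        · exact Or.inr ⟨hpU, (isH1_iff C.hW (pt_mem C.hW p)).mp ((pr_pt C.hW p).symm ▸ hp)⟩)
      have he : pr C.hW (hW'W (hV hpV)) = p := pr_pt C.hW p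
      rwa [he] at h1
    obtain ⟨a, ha⟩ := exists_sec C.hW (hV.trans hW'W) z hall
    refine ⟨a, extι_injective hs hgen hd V ?_⟩
    rw [Scheme.Modules.Hom.app_smul, extι_rs, ht]
    refine C.eq_of_crd hs hgen (hV.trans hW'W) _ _ fun hη => ?_
    rw [C.crd_smul, C.crd_res, hsf, ha hη]
    simp only [z, dif_pos hη]
    rw [div_mul_cancel₀ _ hf0]

theorem isInvertible_extMod (hufd : ∀ x : X, x ∉ U → UniqueFactorizationMonoid (X.presheaf.stalk x)) :
    PicF.IsInvertible (extMod hs hgen hd) := by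
  intro x
  by_cases hx : x ∈ U
  · obtain ⟨O, hxO, hOU, g, hg⟩ := hgen x hx
    have hO : ∀ {V : X.Opens}, V ≤ O → ∀ (s : Γ(M, V)) (y : X) (hy : IsBad U y), y ∈ V → ExtAt hs hgen hd s hy :=
      fun hVO s y hy hyV => absurd (hOU (hVO hyV)) hy.1
    obtain ⟨t, ht⟩ := exists_extι_eq hs hgen hd g (hO le_rfl g)
    refine ⟨O, hxO, exists_iso_of_isGen _ (e := t) fun V hV => ⟨fun a a' haa => ?_, fun r => ?_⟩⟩
    · have h1 := congrArg ((extι hs hgen hd).app V) haa
      simp only [Scheme.Modules.Hom.app_smul] at h1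
      rw [extι_rs, ht] at h1
      exact (hg V hV).1 h1
    · obtain ⟨a, ha⟩ := (hg V hV).2 ((extι hs hgen hd).app V r)
      refine ⟨a, extι_injective hs hgen hd V ?_⟩
      rw [Scheme.Modules.Hom.app_smul, extι_rs, ht]
      exact ha
  · haveI : UniqueFactorizationMonoid (X.presheaf.stalk x) := hufd x hx
    haveI : IsDomain (X.presheaf.stalk x) := { (inferInstance : IsCancelMulZero (X.presheaf.stalk x)),
      (inferInstance : Nontrivial (X.presheaf.stalk x)) with }
    obtain ⟨C, hxW⟩ := exists_chart hgen hd x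
    obtain ⟨W', hxW', t, ht⟩ := exists_gen_of_chart hs hgen hd hufd C hxW hx
    exact ⟨W', hxW', exists_iso_of_isGen _ ht⟩

end Groth.L21.Extend
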