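import Mathlib.RingTheory.UniqueFactorizationDomain.Basic
import Mathlib.RingTheory.UniqueFactorizationDomain.GCDMonoid
import Mathlib.RingTheory.DiscreteValuationRing.TFAE
import Mathlib.RingTheory.Localization.FractionRing
import Mathlib.RingTheory.Localization.AtPrime.Basic
import Mathlib.RingTheory.Ideal.MinimalPrime.Noetherian
import Mathlib.RingTheory.Localization.Ideal
import Mathlib.RingTheory.Localization.Submodule

/-!
Height-one primes below a prime with factorial localisation: detecting membership in localisations and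
choosing elements with prescribed orders.
-/

set_option autoImplicit false
universe u v

open IsLocalRing

namespace Groth.L21.Extend

variable {B : Type u} [CommRing B] [IsDomain B] {K : Type v} [Field K] [Algebra B K] [IsFractionRing B K]

/-- `z` lies in the localisation of `B` at `p`. -/
def InLoc (p : Ideal B) (z : K) : Prop :=
  ∃ a s : B, s ∉ p ∧ z * algebraMap B K s = algebraMap B K a

/-- `z` is a unit of the localisation of `B` at `p`. -/
def UnitAt (p : Ideal B) (z : K) : Prop := z ≠ 0 ∧ InLoc p z ∧ InLoc p z⁻¹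

/-- The localisation at `p` is a discrete valuation ring. -/
def IsH1 (p : Ideal B) : Prop :=
  ∃ _ : p.IsPrime, IsDiscreteValuationRing (Localization.AtPrime p)

theorem inLoc_algebraMap (p : Ideal B) [hp : p.IsPrime] (a : B) : InLoc p (algebraMap B K a) :=
  ⟨a, 1, p.one_notMem, by rw [map_one, mul_one]⟩

theorem inLoc_mono {p q : Ideal B} (h : p ≤ q) {z : K} (hz : InLoc q z) : InLoc p z :=
  let ⟨a, s, hs, e⟩ := hz
  ⟨a, s, fun hs' => hs (h hs'), e⟩

theorem inLoc_mul {p : Ideal B} [hp : p.IsPrime] {z w : K} (hz : InLoc p z) (hw : InLoc p w) :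
    InLoc p (z * w) := by
  obtain ⟨a, s, hs, e⟩ := hz
  obtain ⟨b, t, ht, e'⟩ := hw
  refine ⟨a * b, s * t, fun h => (hp.mem_or_mem h).elim hs ht, ?_⟩
  rw [map_mul, map_mul, ← e, ← e']; ring

theorem inLoc_one (p : Ideal B) [p.IsPrime] : InLoc p (1 : K) := map_one (algebraMap B K) ▸ inLoc_algebraMap p 1

theorem unitAt_one (p : Ideal B) [p.IsPrime] : UnitAt p (1 : K) :=
  ⟨one_ne_zero, inLoc_one p, by rw [inv_one]; exact inLoc_one p⟩

theorem unitAt_mul {p : Ideal B} [p.IsPrime] {z w : K} (hz : UnitAt p z) (hw : UnitAt p w) :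
    UnitAt p (z * w) :=
  ⟨mul_ne_zero hz.1 hw.1, inLoc_mul hz.2.1 hw.2.1, by rw [mul_inv]; exact inLoc_mul hz.2.2 hw.2.2⟩

theorem unitAt_inv {p : Ideal B} {z : K} (hz : UnitAt p z) : UnitAt p z⁻¹ :=
  ⟨inv_ne_zero hz.1, hz.2.2, by rw [inv_inv]; exact hz.2.1⟩

theorem unitAt_pow {p : Ideal B} [p.IsPrime] {z : K} (hz : UnitAt p z) : ∀ n : ℕ, UnitAt p (z ^ n)
  | 0 => by rw [pow_zero]; exact unitAt_one p
  | n + 1 => by rw [pow_succ]; exact unitAt_mul (unitAt_pow hz n) hz

theorem unitAt_zpow {p : Ideal B} [p.IsPrime] {z : K} (hz : UnitAt p z) : ∀ n : ℤ, UnitAt p (z ^ n)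
  | .ofNat n => by rw [Int.ofNat_eq_natCast, zpow_natCast]; exact unitAt_pow hz n
  | .negSucc n => by rw [zpow_negSucc]; exact unitAt_inv (unitAt_pow hz _)

theorem unitAt_algebraMap {p : Ideal B} [p.IsPrime] {b : B} (hb : b ∉ p) :
    UnitAt p (algebraMap B K b) := by
  have h0 : algebraMap B K b ≠ 0 := fun h => hb (by
    rw [(IsFractionRing.injective B K) (h.trans (map_zero _).symm)]; exact p.zero_mem)
  exact ⟨h0, inLoc_algebraMap p b, 1, b, hb, by rw [map_one, inv_mul_cancel₀ h0]⟩

theorem unitAt_prod {p : Ideal B} [p.IsPrime] {ι : Type*} (s : Finset ι) (f : ι → K)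
    (h : ∀ i ∈ s, UnitAt p (f i)) : UnitAt p (∏ i ∈ s, f i) := by
  classical
  induction s using Finset.induction_on with
  | empty => exact unitAt_one p
  | insert i s his ih =>
    rw [Finset.prod_insert his]
    exact unitAt_mul (h i (Finset.mem_insert_self _ _)) (ih fun j hj => h j (Finset.mem_insert_of_mem hj))

theorem eq_of_le_of_isH1 {q p : Ideal B} [q.IsPrime] (hp : IsH1 p) (hq : q ≠ ⊥) (hle : q ≤ p) : q = p := by
  obtain ⟨hpp, hdvr⟩ := hp
  haveI := hdvr
  have hd : Disjoint (p.primeCompl : Set B) q := Set.disjoint_left.mpr fun a ha ha' => ha (hle ha')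
  have h1 := IsLocalization.isPrime_of_isPrime_disjoint p.primeCompl (Localization.AtPrime p) q inferInstance hd
  have h2 : q.map (algebraMap B (Localization.AtPrime p)) ≠ ⊥ := fun e => hq (by
    rw [Ideal.map_eq_bot_iff_of_injective
      (IsLocalization.injective _ p.primeCompl_le_nonZeroDivisors)] at e
    exact e)
  have h3 := IsLocalRing.eq_maximalIdeal (h1.isMaximal h2)
  have h4 := IsLocalization.under_map_of_isPrime_disjoint p.primeCompl (Localization.AtPrime p) (hI := inferInstance) hd
  rw [← h4, h3, Ideal.under]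
  exact IsLocalization.AtPrime.comap_maximalIdeal (Localization.AtPrime p) p

theorem mem_minimalPrimes_of_isH1 {p : Ideal B} (hp : IsH1 p) {j : B} (hj0 : j ≠ 0) (hj : j ∈ p) :
    p ∈ (Ideal.span {j}).minimalPrimes := by
  refine ⟨⟨hp.1, (Ideal.span_singleton_le_iff_mem p).mpr hj⟩, fun q hq hle => ?_⟩
  haveI := hq.1
  exact (eq_of_le_of_isH1 hp (fun e => hj0 (by
    have := hq.2 (Ideal.mem_span_singleton_self j)
    rwa [e, Ideal.mem_bot] at this)) hle).ge

variable (P : Ideal B) [P.IsPrime] [UniqueFactorizationMonoid (Localization.AtPrime P)]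

/-- A prime element of a factorial localisation defines a height-one prime. -/
theorem isH1_of_prime [IsNoetherianRing B] {π : Localization.AtPrime P} (hπ : Prime π) :
    IsH1 ((Ideal.span {π}).comap (algebraMap B (Localization.AtPrime P))) ∧
      (Ideal.span {π}).comap (algebraMap B (Localization.AtPrime P)) ≤ P := by
  revert π
  set A := Localization.AtPrime P
  set φ := algebraMap B A
  intro π hπ
  have hne : Ideal.span {π} ≠ ⊤ := fun h => hπ.not_unit (Ideal.span_singleton_eq_top.mp h)
  haveI hπp : (Ideal.span {π}).IsPrime := (Ideal.span_singleton_prime hπ.ne_zero).mpr hπ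
  set p := (Ideal.span {π}).comap φ
  have hpP : p ≤ P := fun b hb =>
    (IsLocalization.AtPrime.to_map_mem_maximal_iff A P b).mp (le_maximalIdeal hne hb)
  haveI : p.IsPrime := Ideal.IsPrime.comap φ
  refine ⟨⟨inferInstance, ?_⟩, hpP⟩
  obtain ⟨a, s, hπe⟩ := IsLocalization.exists_mk'_eq P.primeCompl π
  have has : π * φ s = φ a := by rw [← hπe]; exact IsLocalization.mk'_spec A a s
  have ha : a ∈ p := show φ a ∈ Ideal.span {π} from has ▸ Ideal.mul_mem_right _ _ (Ideal.mem_span_singleton_self π)
  have ha0 : a ≠ 0 := fun e => hπ.ne_zero (by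
    rw [e, map_zero] at has
    exact (mul_eq_zero.mp has).resolve_right (IsLocalization.map_units A s).ne_zero)
  set ψ := algebraMap B (Localization.AtPrime p)
  have hψinj : Function.Injective ψ := IsLocalization.injective _ p.primeCompl_le_nonZeroDivisors
  have hφinj : Function.Injective φ := IsLocalization.injective _ P.primeCompl_le_nonZeroDivisors
  have hgen : maximalIdeal (Localization.AtPrime p) = Ideal.span {ψ a} := by
    refine le_antisymm ?_ ((Ideal.span_singleton_le_iff_mem _).mpr
      ((IsLocalization.AtPrime.to_map_mem_maximal_iff _ p a).mpr ha))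
    rw [← Localization.AtPrime.map_eq_maximalIdeal, Ideal.map_le_iff_le_comap]
    intro b hb
    obtain ⟨c, hc⟩ := Ideal.mem_span_singleton'.mp (show φ b ∈ Ideal.span {π} from hb)
    obtain ⟨c, t, rfl⟩ := IsLocalization.exists_mk'_eq P.primeCompl c
    have h1 : φ (b * (t * s)) = φ (c * a) := by
      rw [map_mul φ b, map_mul φ (t : B), map_mul φ c, ← hc, ← has, ← IsLocalization.mk'_spec A c t]; ring
    have h2 := congrArg ψ (hφinj h1)
    rw [map_mul ψ b, map_mul ψ c] at h2
    have hu : IsUnit (ψ (t * s)) := IsLocalization.map_units (Localization.AtPrime p)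
      (⟨t * s, fun h => (t * s).2 (hpP h)⟩ : p.primeCompl)
    obtain ⟨w, hw⟩ := hu.exists_right_inv
    exact Ideal.mem_span_singleton.mpr ⟨ψ c * w, by
      calc ψ b = ψ b * (ψ (t * s) * w) := by rw [hw, mul_one]
        _ = ψ a * (ψ c * w) := by rw [← mul_assoc, h2]; ring⟩
  have hnf : ¬ IsField (Localization.AtPrime p) := fun hf => ha0 (hψinj (by
    have h0 : maximalIdeal (Localization.AtPrime p) = ⊥ := IsLocalRing.isField_iff_maximalIdeal_eq.mp hf
    rw [hgen, Ideal.span_singleton_eq_bot] at h0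
    rw [h0, map_zero]))
  haveI : IsNoetherianRing (Localization.AtPrime p) := IsLocalization.isNoetherianRing p.primeCompl _ inferInstance
  have hpr : (maximalIdeal (Localization.AtPrime p)).IsPrincipal := ⟨ψ a, hgen⟩
  exact ((IsDiscreteValuationRing.TFAE (Localization.AtPrime p) hnf).out 0 4).mpr hpr

/-- Membership in a localisation is detected at height-one primes, away from the zeros of `b`. -/
theorem exists_pow_of_forall_isH1 [IsNoetherianRing B] (b : B) (z : K)
    (hz : ∀ p : Ideal B, IsH1 p → p ≤ P → b ∉ p → InLoc p z) :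
    ∃ h ∉ P, ∀ q : Ideal B, q.IsPrime → h * b ∉ q → InLoc q z := by
  classical
  set A := Localization.AtPrime P
  set φ := algebraMap B A
  obtain ⟨a₀, c₀, hc₀, hac⟩ := IsFractionRing.div_surjective B z
  have hc₀0 : φ c₀ ≠ 0 := fun e => nonZeroDivisors.ne_zero hc₀
    ((IsLocalization.injective A P.primeCompl_le_nonZeroDivisors) (e.trans (map_zero φ).symm))
  obtain ⟨a', c', d, hno, ha', hc'⟩ :=
    UniqueFactorizationMonoid.exists_reduced_factors' (φ a₀) (φ c₀) hc₀0
  have hc'0 : c' ≠ 0 := fun e => hc₀0 (by rw [← hc', e, mul_zero])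
  have hd0 : d ≠ 0 := fun e => hc₀0 (by rw [← hc', e, zero_mul])
  have hdiv : ∀ π : A, Prime π → π ∣ c' → π ∣ φ b := by
    intro π hπ hπc
    by_contra hb
    obtain ⟨hH, hle⟩ := isH1_of_prime P hπ
    haveI := hH.1
    obtain ⟨r, s, hs, hrs⟩ := hz _ hH hle fun h => hb (Ideal.mem_span_singleton.mp h)
    have hK : a₀ * s = r * c₀ := IsFractionRing.injective B K (by
      rw [map_mul, map_mul, ← hrs, ← hac, div_mul_eq_mul_div, div_mul_cancel₀]
      exact fun e => nonZeroDivisors.ne_zero hc₀ (IsFractionRing.injective B K (e.trans (map_zero _).symm)))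
    have h1 := congrArg φ hK
    rw [map_mul, map_mul, ← ha', ← hc', mul_assoc, mul_left_comm (φ r) d c'] at h1
    have h2 : a' * φ s = φ r * c' := mul_left_cancel₀ hd0 h1
    rcases hπ.dvd_or_dvd (h2 ▸ dvd_mul_of_dvd_right hπc (φ r) : π ∣ a' * φ s) with h | h
    · exact hπ.not_unit (hno h hπc)
    · exact hs (Ideal.mem_span_singleton.mpr h)
  obtain ⟨n, hn⟩ : ∃ n : ℕ, c' ∣ φ b ^ n := by
    obtain ⟨f, hf, hfc⟩ := UniqueFactorizationMonoid.exists_prime_factors c' hc'0
    refine ⟨f.card, hfc.symm.dvd.trans ?_⟩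
    have key : ∀ m : Multiset A, (∀ π ∈ m, π ∣ φ b) → m.prod ∣ φ b ^ m.card := by
      intro m
      induction m using Multiset.induction with
      | empty => simp
      | cons π m ih =>
        intro h
        rw [Multiset.prod_cons, Multiset.card_cons, pow_succ']
        exact mul_dvd_mul (h π (Multiset.mem_cons_self π m)) (ih fun x hx => h x (Multiset.mem_cons_of_mem hx))
    exact key f fun π hπ => hdiv π (hf π hπ) ((Multiset.dvd_prod hπ).trans hfc.dvd)
  obtain ⟨e, he⟩ := hn
  obtain ⟨a₁, t, ht⟩ := IsLocalization.exists_mk'_eq P.primeCompl (a' * e)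
  refine ⟨t, t.2, fun q hq hbq => ?_⟩
  have h1 : φ (a₀ * b ^ n * t) = φ (a₁ * c₀) := by
    rw [map_mul, map_mul, map_pow, map_mul, ← IsLocalization.mk'_spec A a₁ t, ht, ← ha', ← hc', he]; ring
  have h2 := congrArg (algebraMap B K) (IsLocalization.injective A P.primeCompl_le_nonZeroDivisors h1)
  refine ⟨a₁, b ^ n * t, fun h => ?_, ?_⟩
  · rcases hq.mem_or_mem h with h | h
    · exact hbq (q.mul_mem_left _ (hq.mem_of_pow_mem n h))
    · exact hbq (q.mul_mem_right _ h)
  · rw [← hac, div_mul_eq_mul_div, div_eq_iff (fun e => nonZeroDivisors.ne_zero hc₀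
      (IsFractionRing.injective B K (e.trans (map_zero _).symm)))]
    rw [← map_mul, ← map_mul, ← mul_assoc]
    exact h2

theorem inLoc_of_forall_isH1 [IsNoetherianRing B] (z : K)
    (hz : ∀ p : Ideal B, IsH1 p → p ≤ P → InLoc p z) : InLoc P z := by
  obtain ⟨h, hh, H⟩ := exists_pow_of_forall_isH1 P 1 z fun p hp hle _ => hz p hp hle
  exact H P inferInstance (by rwa [mul_one])

theorem exists_prime_generator [IsNoetherianRing B] {p : Ideal B} (hp : IsH1 p) (hle : p ≤ P) :
    ∃ a : B, a ≠ 0 ∧ (∀ q : Ideal B, IsH1 q → q ≤ P → q ≠ p → a ∉ q) ∧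
      ∀ c : K, c ≠ 0 → ∃ n : ℤ, UnitAt p (algebraMap B K a ^ n / c) := by
  classical
  obtain ⟨hpp, hdvr⟩ := hp
  haveI := hdvr
  set A := Localization.AtPrime P
  set φ := algebraMap B A
  set ψ := algebraMap B (Localization.AtPrime p)
  have hψinj : Function.Injective ψ := IsLocalization.injective _ p.primeCompl_le_nonZeroDivisors
  have hφinj : Function.Injective φ := IsLocalization.injective _ P.primeCompl_le_nonZeroDivisors
  have hd : Disjoint (P.primeCompl : Set B) p := Set.disjoint_left.mpr fun a ha ha' => ha (hle ha')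
  haveI hp' : (p.map φ).IsPrime := IsLocalization.isPrime_of_isPrime_disjoint P.primeCompl A p inferInstance hd
  have hp0 : p ≠ ⊥ := by
    intro e
    apply IsDiscreteValuationRing.not_a_field (Localization.AtPrime p)
    rw [← Localization.AtPrime.map_eq_maximalIdeal]
    subst e
    exact Ideal.map_bot
  obtain ⟨π, hπp, hπ⟩ := Ideal.IsPrime.exists_mem_prime_of_ne_bot hp'
    (fun e => hp0 ((Ideal.map_eq_bot_iff_of_injective hφinj).mp e))
  obtain ⟨a, s, hπe⟩ := IsLocalization.exists_mk'_eq P.primeCompl π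
  have has : π * φ s = φ a := by rw [← hπe]; exact IsLocalization.mk'_spec A a s
  haveI : (Ideal.span {π}).IsPrime := (Ideal.span_singleton_prime hπ.ne_zero).mpr hπ
  have ha : a ∈ (Ideal.span {π}).comap φ :=
    show φ a ∈ _ from has ▸ Ideal.mul_mem_right _ _ (Ideal.mem_span_singleton_self π)
  have ha0 : a ≠ 0 := fun e => hπ.ne_zero (by
    rw [e, map_zero] at has
    exact (mul_eq_zero.mp has).resolve_right (IsLocalization.map_units A s).ne_zero)
  have hcomap : (p.map φ).comap φ = p :=
    IsLocalization.under_map_of_isPrime_disjoint P.primeCompl A (hI := inferInstance) hd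
  have hsub : (Ideal.span {π}).comap φ ≤ p :=
    (Ideal.comap_mono ((Ideal.span_singleton_le_iff_mem _).mpr hπp)).trans hcomap.le
  have hπeq : (Ideal.span {π}).comap φ = p := eq_of_le_of_isH1 ⟨hpp, hdvr⟩
    (fun e => ha0 (by rw [e, Ideal.mem_bot] at ha; exact ha)) hsub
  have hap : a ∈ p := hsub ha
  refine ⟨a, ha0, fun q hq hqP hne haq => hne ?_, fun c hc => ?_⟩
  · haveI := hq.1
    have hdq : Disjoint (P.primeCompl : Set B) q := Set.disjoint_left.mpr fun a ha ha' => ha (hqP ha')
    haveI := IsLocalization.isPrime_of_isPrime_disjoint P.primeCompl A q inferInstance hdq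
    have hπq : π ∈ q.map φ := by
      have : φ a ∈ q.map φ := Ideal.mem_map_of_mem _ haq
      rw [← has] at this
      exact ((inferInstance : (q.map φ).IsPrime).mem_or_mem this).resolve_right fun h =>
        (inferInstance : (q.map φ).IsPrime).ne_top (Ideal.eq_top_of_isUnit_mem _ h (IsLocalization.map_units A s))
    have hle' : p ≤ q := by
      rw [← hπeq, ← IsLocalization.under_map_of_isPrime_disjoint P.primeCompl A (hI := inferInstance) hdq]
      exact Ideal.comap_mono ((Ideal.span_singleton_le_iff_mem _).mpr hπq)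
    exact (eq_of_le_of_isH1 hq hp0 hle').symm
  have hgen : maximalIdeal (Localization.AtPrime p) = Ideal.span {ψ a} := by
    refine le_antisymm ?_ ((Ideal.span_singleton_le_iff_mem _).mpr
      ((IsLocalization.AtPrime.to_map_mem_maximal_iff _ p a).mpr hap))
    rw [← Localization.AtPrime.map_eq_maximalIdeal, Ideal.map_le_iff_le_comap]
    intro b hb
    obtain ⟨c, hc⟩ := Ideal.mem_span_singleton'.mp (show φ b ∈ Ideal.span {π} from (hπeq.ge hb))
    obtain ⟨c, t, rfl⟩ := IsLocalization.exists_mk'_eq P.primeCompl c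
    have h1 : φ (b * (t * s)) = φ (c * a) := by
      rw [map_mul φ b, map_mul φ (t : B), map_mul φ c, ← hc, ← has, ← IsLocalization.mk'_spec A c t]; ring
    have h2 := congrArg ψ (hφinj h1)
    rw [map_mul ψ b, map_mul ψ c] at h2
    have hu : IsUnit (ψ (t * s)) := IsLocalization.map_units (Localization.AtPrime p)
      (⟨t * s, fun h => (t * s).2 (hle h)⟩ : p.primeCompl)
    obtain ⟨w, hw⟩ := hu.exists_right_inv
    exact Ideal.mem_span_singleton.mpr ⟨ψ c * w, by
      calc ψ b = ψ b * (ψ (t * s) * w) := by rw [hw, mul_one]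
        _ = ψ a * (ψ c * w) := by rw [← mul_assoc, h2]; ring⟩
  have hirr : Irreducible (ψ a) := (IsDiscreteValuationRing.irreducible_iff_uniformizer _).mpr hgen
  have key : ∀ b : B, b ≠ 0 → ∃ m : ℕ, UnitAt p (algebraMap B K b / algebraMap B K a ^ m) := by
    intro b hb
    obtain ⟨m, u, hu⟩ := IsDiscreteValuationRing.eq_unit_mul_pow_irreducible
      (fun e => hb (hψinj (e.trans (map_zero ψ).symm))) hirr
    obtain ⟨r, t, hr⟩ := IsLocalization.exists_mk'_eq p.primeCompl (u : Localization.AtPrime p)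
    have hrp : r ∉ p := fun h => by
      have := IsLocalization.mk'_spec (Localization.AtPrime p) r t
      rw [hr] at this
      exact (IsLocalization.AtPrime.to_map_mem_maximal_iff _ p r).mpr h
        (this ▸ u.isUnit.mul (IsLocalization.map_units (Localization.AtPrime p) t))
    have h1 : ψ (b * t) = ψ (r * a ^ m) := by
      rw [map_mul ψ b, hu, map_mul ψ r, map_pow, ← IsLocalization.mk'_spec (Localization.AtPrime p) r t, hr]; ring
    have h2 := congrArg (algebraMap B K) (hψinj h1)
    rw [map_mul, map_mul, map_pow] at h2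
    have haK : algebraMap B K a ≠ 0 := fun e => ha0 (IsFractionRing.injective B K (e.trans (map_zero _).symm))
    refine ⟨m, ?_⟩
    have h3 : algebraMap B K b / algebraMap B K a ^ m = algebraMap B K r * (algebraMap B K t)⁻¹ := by
      rw [eq_mul_inv_iff_mul_eq₀ (unitAt_algebraMap (K := K) t.2).1, div_mul_eq_mul_div,
        div_eq_iff (pow_ne_zero _ haK), h2]
    rw [h3]
    exact unitAt_mul (unitAt_algebraMap hrp) (unitAt_inv (unitAt_algebraMap t.2))
  obtain ⟨x, y, hy, rfl⟩ := IsFractionRing.div_surjective B c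
  obtain ⟨hx0, hy0⟩ := div_ne_zero_iff.mp hc
  obtain ⟨m₁, h₁⟩ := key x fun e => hx0 (by rw [e, map_zero])
  obtain ⟨m₂, h₂⟩ := key y (nonZeroDivisors.ne_zero hy)
  refine ⟨(m₁ : ℤ) - m₂, ?_⟩
  have haK : algebraMap B K a ≠ 0 := fun e => ha0 (IsFractionRing.injective B K (e.trans (map_zero _).symm))
  have h4 : algebraMap B K a ^ ((m₁ : ℤ) - m₂) / (algebraMap B K x / algebraMap B K y) =
      (algebraMap B K y / algebraMap B K a ^ m₂) * (algebraMap B K x / algebraMap B K a ^ m₁)⁻¹ := by
    rw [zpow_sub₀ haK, zpow_natCast, zpow_natCast]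
    field_simp
  rw [h4]
  exact unitAt_mul h₂ (unitAt_inv h₁)

/-- An element with prescribed orders at the height-one primes below `P`, trivial away from the zeros
of `j`. -/
theorem exists_prescribed [IsNoetherianRing B] {j : B} (hj : j ≠ 0) (c : Ideal B → K)
    (hc : ∀ p, c p ≠ 0) :
    ∃ f : K, f ≠ 0 ∧ ∀ p : Ideal B, IsH1 p → p ≤ P →
      (j ∈ p → UnitAt p (f / c p)) ∧ (j ∉ p → UnitAt p f) := by
  classical
  let S := {p : Ideal B | IsH1 p ∧ p ≤ P ∧ j ∈ p}
  have hS : S.Finite := (Ideal.finite_minimalPrimes_of_isNoetherianRing B (Ideal.span {j})).subset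
    fun p hp => mem_minimalPrimes_of_isH1 hp.1 hj hp.2.2
  choose a ha ha' hn using fun (p : S) => exists_prime_generator (K := K) P p.2.1 p.2.2.1
  choose n hn using fun (p : S) => hn p (c p.1) (hc p.1)
  haveI := hS.fintype
  have ha0 : ∀ p : S, algebraMap B K (a p) ≠ 0 := fun p e =>
    ha p (IsFractionRing.injective B K (e.trans (map_zero _).symm))
  refine ⟨∏ p : S, algebraMap B K (a p) ^ n p, Finset.prod_ne_zero_iff.mpr fun p _ => zpow_ne_zero _ (ha0 p),
    fun q hq hqP => ?_⟩
  haveI := hq.1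
  have hother : ∀ p : S, p.1 ≠ q → UnitAt q (algebraMap B K (a p) ^ n p) := fun p hne =>
    unitAt_zpow (unitAt_algebraMap (ha' p q hq hqP (Ne.symm hne))) _
  refine ⟨fun hjq => ?_, fun hjq => unitAt_prod _ _ fun p _ => hother p fun e => hjq (e ▸ p.2.2.2)⟩
  rw [← Finset.mul_prod_erase Finset.univ _ (Finset.mem_univ (⟨q, hq, hqP, hjq⟩ : S)), mul_div_right_comm]
  exact unitAt_mul (hn _) (unitAt_prod _ _ fun p hp => hother p fun e =>
    (Finset.mem_erase.mp hp).1 (Subtype.ext e))

end Groth.L21.Extend
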