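import Groth.Agent.L21.Extend.Algebra
import Mathlib.AlgebraicGeometry.AffineScheme
import Mathlib.Topology.Sheaves.SheafCondition.UniqueGluing
import Mathlib.RingTheory.DiscreteValuationRing.Basic

/-!
Sections over opens of an affine open with domain of sections, as elements of the fraction field.
-/

set_option autoImplicit false
universe u

open CategoryTheory AlgebraicGeometry TopologicalSpace Opposite

noncomputable section

namespace Groth.L21.Extend

variable {X : Scheme.{u}} {W : X.Opens} (hW : IsAffineOpen W) [IsDomain Γ(X, W)]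

/-- The point of `W` of a prime of sections. -/
def pt (p : Ideal Γ(X, W)) [hp : p.IsPrime] : X := hW.fromSpec ⟨p, hp⟩

/-- The generic point of `W`. -/
def gen : X := pt hW ⊥

omit [IsDomain Γ(X, W)] in
theorem pt_mem (p : Ideal Γ(X, W)) [hp : p.IsPrime] : pt hW p ∈ W := hW.range_fromSpec.le ⟨_, rfl⟩

theorem gen_mem : gen hW ∈ W := pt_mem hW ⊥

/-- The prime of a point of `W`. -/
abbrev pr {y : X} (hy : y ∈ W) : Ideal Γ(X, W) := (hW.primeIdealOf ⟨y, hy⟩).asIdeal

instance {y : X} (hy : y ∈ W) : (pr hW hy).IsPrime := (hW.primeIdealOf ⟨y, hy⟩).2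

omit [IsDomain Γ(X, W)] in
theorem pt_pr {y : X} (hy : y ∈ W) : pt hW (pr hW hy) = y := hW.fromSpec_primeIdealOf ⟨y, hy⟩

omit [IsDomain Γ(X, W)] in
theorem pr_pt (p : Ideal Γ(X, W)) [hp : p.IsPrime] : pr hW (pt_mem hW p) = p := by
  have h : hW.primeIdealOf ⟨_, pt_mem hW p⟩ = ⟨p, hp⟩ :=
    hW.fromSpec.isOpenEmbedding.injective (hW.fromSpec_primeIdealOf ⟨_, pt_mem hW p⟩)
  exact congrArg PrimeSpectrum.asIdeal h

omit [IsDomain Γ(X, W)] in
theorem pt_specializes {p q : Ideal Γ(X, W)} [hp : p.IsPrime] [hq : q.IsPrime] (h : p ≤ q) :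
    pt hW p ⤳ pt hW q :=
  ((PrimeSpectrum.le_iff_specializes (⟨p, hp⟩ : PrimeSpectrum Γ(X, W)) ⟨q, hq⟩).mp h).map hW.fromSpec.continuous

omit [IsDomain Γ(X, W)] in
theorem mem_of_le {V : X.Opens} {p : Ideal Γ(X, W)} [p.IsPrime] {y : X} (hy : y ∈ W) (hyV : y ∈ V)
    (h : p ≤ pr hW hy) : pt hW p ∈ V :=
  (pt_specializes hW h).mem_open V.isOpen ((pt_pr hW hy).symm ▸ hyV)

theorem gen_mem_of_mem {V : X.Opens} {y : X} (hy : y ∈ W) (hyV : y ∈ V) : gen hW ∈ V :=
  mem_of_le hW hy hyV bot_le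

omit [IsDomain Γ(X, W)] in
theorem mem_basicOpen {y : X} (hy : y ∈ W) (b : Γ(X, W)) : y ∈ X.basicOpen b ↔ b ∉ pr hW hy := by
  have h : hW.primeIdealOf ⟨y, hy⟩ ∈ hW.fromSpec ⁻¹ᵁ X.basicOpen b ↔ b ∉ pr hW hy := by
    rw [hW.fromSpec_preimage_basicOpen]; rfl
  have h2 : hW.fromSpec (hW.primeIdealOf ⟨y, hy⟩) = y := hW.fromSpec_primeIdealOf ⟨y, hy⟩
  rw [← h]
  conv_lhs => rw [← h2]
  rfl

/-- The stalk at the generic point as the fraction field. -/
def toFrac : X.presheaf.stalk (gen hW) →+* FractionRing Γ(X, W) :=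
  letI := X.presheaf.algebra_section_stalk ⟨gen hW, gen_mem hW⟩
  haveI := hW.isLocalization_stalk ⟨gen hW, gen_mem hW⟩
  IsLocalization.lift (M := (hW.primeIdealOf ⟨gen hW, gen_mem hW⟩).asIdeal.primeCompl)
    (g := algebraMap Γ(X, W) (FractionRing Γ(X, W))) fun s =>
      IsUnit.mk0 _ fun e => s.2 (by
        show (s : Γ(X, W)) ∈ _
        rw [IsFractionRing.injective _ _ (e.trans (map_zero _).symm)]
        exact Ideal.zero_mem _)

theorem toFrac_germ (a : Γ(X, W)) :
    toFrac hW (X.presheaf.germ W _ (gen_mem hW) a) = algebraMap Γ(X, W) (FractionRing Γ(X, W)) a := by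
  letI := X.presheaf.algebra_section_stalk ⟨gen hW, gen_mem hW⟩
  haveI := hW.isLocalization_stalk ⟨gen hW, gen_mem hW⟩
  exact IsLocalization.lift_eq (M := (hW.primeIdealOf ⟨gen hW, gen_mem hW⟩).asIdeal.primeCompl) _ a

theorem toFrac_injective : Function.Injective (toFrac hW) := by
  letI := X.presheaf.algebra_section_stalk ⟨gen hW, gen_mem hW⟩
  haveI := hW.isLocalization_stalk ⟨gen hW, gen_mem hW⟩
  refine (IsLocalization.lift_injective_iff _).mpr fun x y => ?_
  constructor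
  · intro h
    have h' := congrArg (toFrac hW) h
    exact (toFrac_germ hW x).symm.trans (h'.trans (toFrac_germ hW y))
  · intro h
    rw [IsFractionRing.injective Γ(X, W) (FractionRing Γ(X, W)) h]

/-- Sections as elements of the fraction field. -/
def sec {V : X.Opens} (hV : gen hW ∈ V) : Γ(X, V) →+* FractionRing Γ(X, W) :=
  (toFrac hW).comp (X.presheaf.germ V _ hV).hom

theorem sec_res {V V' : X.Opens} (h : V' ≤ V) (hV' : gen hW ∈ V') (a : Γ(X, V)) :
    sec hW hV' (X.presheaf.map (homOfLE h).op a) = sec hW (h hV') a :=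
  congrArg (toFrac hW) (X.presheaf.germ_res_apply (homOfLE h) _ hV' a)

theorem sec_top (a : Γ(X, W)) : sec hW (gen_mem hW) a = algebraMap Γ(X, W) (FractionRing Γ(X, W)) a :=
  toFrac_germ hW a

/-- The image of the stalk at a point. -/
def atPt {y : X} (hy : y ∈ W) : X.presheaf.stalk y →+* FractionRing Γ(X, W) :=
  (toFrac hW).comp (X.presheaf.stalkSpecializes (show gen hW ⤳ y from
    (pt_pr hW hy) ▸ pt_specializes hW bot_le)).hom

theorem atPt_germ {V : X.Opens} {y : X} (hy : y ∈ W) (hyV : y ∈ V) (a : Γ(X, V)) :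
    atPt hW hy (X.presheaf.germ V y hyV a) = sec hW (gen_mem_of_mem hW hy hyV) a :=
  congrArg (toFrac hW) (TopCat.Presheaf.germ_stalkSpecializes_apply X.presheaf hyV _ a)

theorem atPt_injective {y : X} (hy : y ∈ W) : Function.Injective (atPt hW hy) := by
  letI := X.presheaf.algebra_section_stalk ⟨y, hy⟩
  haveI := hW.isLocalization_stalk ⟨y, hy⟩
  rw [injective_iff_map_eq_zero]
  intro z hz
  obtain ⟨a, s, rfl⟩ := IsLocalization.exists_mk'_eq (pr hW hy).primeCompl z
  have h := congrArg (atPt hW hy) (IsLocalization.mk'_spec (X.presheaf.stalk y) a s)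
  rw [map_mul, hz, zero_mul] at h
  have h2 : atPt hW hy (algebraMap Γ(X, W) (X.presheaf.stalk y) a) =
      algebraMap Γ(X, W) (FractionRing Γ(X, W)) a := (atPt_germ hW hy hy a).trans (sec_top hW a)
  rw [h2] at h
  rw [IsFractionRing.injective Γ(X, W) (FractionRing Γ(X, W)) (h.symm.trans (map_zero _).symm),
    IsLocalization.mk'_zero]

theorem inLoc_atPt {y : X} (hy : y ∈ W) (z : X.presheaf.stalk y) : InLoc (pr hW hy) (atPt hW hy z) := by
  letI := X.presheaf.algebra_section_stalk ⟨y, hy⟩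
  haveI := hW.isLocalization_stalk ⟨y, hy⟩
  obtain ⟨a, s, rfl⟩ := IsLocalization.exists_mk'_eq (pr hW hy).primeCompl z
  refine ⟨a, s, s.2, ?_⟩
  have h := congrArg (atPt hW hy) (IsLocalization.mk'_spec (X.presheaf.stalk y) a s)
  rw [map_mul] at h
  have h2 : ∀ b, atPt hW hy (algebraMap Γ(X, W) (X.presheaf.stalk y) b) =
      algebraMap Γ(X, W) (FractionRing Γ(X, W)) b := fun b => (atPt_germ hW hy hy b).trans (sec_top hW b)
  rwa [h2, h2] at h

theorem inLoc_sec {V : X.Opens} {y : X} (hy : y ∈ W) (hyV : y ∈ V) (a : Γ(X, V)) :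
    InLoc (pr hW hy) (sec hW (gen_mem_of_mem hW hy hyV) a) :=
  atPt_germ hW hy hyV a ▸ inLoc_atPt hW hy _

theorem sec_injective {V : X.Opens} (hV : V ≤ W) (hg : gen hW ∈ V) : Function.Injective (sec hW hg) := by
  intro a b h
  refine TopCat.Presheaf.section_ext X.sheaf V a b fun y hy => ?_
  apply atPt_injective hW (hV hy)
  rw [show X.sheaf.presheaf.germ V y hy a = X.presheaf.germ V y hy a from rfl,
    show X.sheaf.presheaf.germ V y hy b = X.presheaf.germ V y hy b from rfl, atPt_germ, atPt_germ]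
  exact h

theorem sec_eq_iff {V : X.Opens} (hV : V ≤ W) (a b : Γ(X, V)) :
    a = b ↔ ∀ hg : gen hW ∈ V, sec hW hg a = sec hW hg b := by
  refine ⟨fun h hg => h ▸ rfl, fun h => ?_⟩
  refine TopCat.Presheaf.section_ext X.sheaf V a b fun y hy => ?_
  apply atPt_injective hW (hV hy)
  rw [show X.sheaf.presheaf.germ V y hy a = X.presheaf.germ V y hy a from rfl,
    show X.sheaf.presheaf.germ V y hy b = X.presheaf.germ V y hy b from rfl, atPt_germ, atPt_germ]
  exact h _

theorem exists_nhd {y : X} {V : X.Opens} (hV : V ≤ W) (hy : y ∈ V) {z : FractionRing Γ(X, W)}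
    (hz : InLoc (pr hW (hV hy)) z) :
    ∃ (N : X.Opens) (hN : N ≤ V) (hyN : y ∈ N) (a : Γ(X, N)),
      sec hW (gen_mem_of_mem hW (hV hy) hyN) a = z := by
  obtain ⟨r, s, hs, e⟩ := hz
  have hyD : y ∈ X.basicOpen s ⊓ V := ⟨(mem_basicOpen hW (hV hy) s).mpr hs, hy⟩
  set D := X.basicOpen s ⊓ V
  have hD : D ≤ W := inf_le_right.trans hV
  have hu : IsUnit (X.presheaf.map (homOfLE hD).op s) := by
    have h1 := (X.toRingedSpace.isUnit_res_basicOpen s).map
      (X.presheaf.map (homOfLE (inf_le_left : D ≤ X.basicOpen s)).op).hom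
    convert h1 using 1
    show _ = X.presheaf.map _ (X.presheaf.map _ s)
    rw [← ConcreteCategory.comp_apply, ← X.presheaf.map_comp]
    rfl
  obtain ⟨w, hw⟩ := hu.exists_right_inv
  refine ⟨D, inf_le_right, hyD, X.presheaf.map (homOfLE hD).op r * w, ?_⟩
  set σ := sec hW (gen_mem_of_mem hW (hV hy) hyD)
  have h1 := congrArg σ hw
  rw [map_mul, map_one] at h1
  have h2 : ∀ b, σ (X.presheaf.map (homOfLE hD).op b) = algebraMap Γ(X, W) (FractionRing Γ(X, W)) b :=
    fun b => (sec_res hW hD (gen_mem_of_mem hW (hV hy) hyD) b).trans (sec_top hW b)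
  rw [h2] at h1
  rw [map_mul, h2, ← e, mul_assoc, h1, mul_one]

theorem exists_sec {V : X.Opens} (hV : V ≤ W) (z : FractionRing Γ(X, W))
    (hz : ∀ y (hy : y ∈ V), InLoc (pr hW (hV hy)) z) :
    ∃ a : Γ(X, V), ∀ hg : gen hW ∈ V, sec hW hg a = z := by
  choose N hN hyN a ha using fun y : V => exists_nhd hW hV y.2 (hz y.1 y.2)
  obtain ⟨s, hs, -⟩ := X.sheaf.existsUnique_gluing' N V (fun y => homOfLE (hN y))
    (fun y hy => Opens.mem_iSup.mpr ⟨⟨y, hy⟩, hyN ⟨y, hy⟩⟩) a (fun i j => by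
      refine (sec_eq_iff hW ((inf_le_left.trans (hN i)).trans hV) _ _).mpr fun hg => ?_
      exact ((sec_res hW inf_le_left hg (a i)).trans (ha i)).trans
        ((sec_res hW inf_le_right hg (a j)).trans (ha j)).symm)
  refine ⟨s, fun hg => ?_⟩
  have h1 : sec hW (hyN ⟨gen hW, hg⟩) (X.presheaf.map (homOfLE (hN ⟨gen hW, hg⟩)).op s) = z := by
    rw [show X.presheaf.map (homOfLE (hN ⟨gen hW, hg⟩)).op s = a ⟨gen hW, hg⟩ from hs ⟨gen hW, hg⟩]
    exact ha ⟨gen hW, hg⟩
  rwa [sec_res] at h1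

/-- The stalk at a point as a localisation of sections. -/
def stalkEquiv {y : X} (hy : y ∈ W) : X.presheaf.stalk y ≃+* Localization.AtPrime (pr hW hy) :=
  letI := X.presheaf.algebra_section_stalk ⟨y, hy⟩
  haveI := hW.isLocalization_stalk ⟨y, hy⟩
  (IsLocalization.algEquiv (pr hW hy).primeCompl (X.presheaf.stalk y) _).toRingEquiv

theorem isH1_iff {y : X} (hy : y ∈ W) :
    IsH1 (pr hW hy) ↔ ∃ _ : IsDomain (X.presheaf.stalk y), IsDiscreteValuationRing (X.presheaf.stalk y) := by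
  constructor
  · rintro ⟨_, h⟩
    haveI := h
    haveI : IsDomain (X.presheaf.stalk y) := (stalkEquiv hW hy).toMulEquiv.isDomain
    exact ⟨inferInstance, IsDiscreteValuationRing.RingEquivClass.isDiscreteValuationRing (stalkEquiv hW hy).symm⟩
  · rintro ⟨_, h⟩
    haveI := h
    exact ⟨inferInstance, IsDiscreteValuationRing.RingEquivClass.isDiscreteValuationRing (stalkEquiv hW hy)⟩

omit [IsDomain Γ(X, W)] in
theorem ufm_localization {y : X} (hy : y ∈ W) (h : UniqueFactorizationMonoid (X.presheaf.stalk y)) :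
    UniqueFactorizationMonoid (Localization.AtPrime (pr hW hy)) :=
  MulEquiv.uniqueFactorizationMonoid (stalkEquiv hW hy).toMulEquiv h

end Groth.L21.Extend
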