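import Groth.Agent.L21.Extend.Gen
import Groth.Agent.L21.Extend.Frac

/-!
Coordinates of sections of a generically free rank-one module in the fraction field.
-/

set_option autoImplicit false
universe u

open CategoryTheory AlgebraicGeometry TopologicalSpace Opposite

noncomputable section

namespace Groth.L21.Extend

variable {X : Scheme.{u}}

/-- The data fixing coordinates: an affine open with domain of sections and a generator near its
generic point. -/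
structure Chart (M : X.Modules) (U : X.Opens) where
  W : X.Opens
  hW : IsAffineOpen W
  dom : IsDomain Γ(X, W)
  j : Γ(X, W)
  hj : j ≠ 0
  hjU : X.basicOpen j ≤ U
  e : Γ(M, X.basicOpen j)
  he : IsGen M (X.basicOpen j) e

attribute [instance] Chart.dom

namespace Chart

variable {M : X.Modules} {U : X.Opens} (C : Chart M U)

abbrev F : Type u := FractionRing Γ(X, C.W)

abbrev η : X := gen C.hW

theorem η_memD : C.η ∈ X.basicOpen C.j := by
  rw [mem_basicOpen C.hW (gen_mem C.hW)]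
  have h : pr C.hW (gen_mem C.hW) = (⊥ : Ideal Γ(X, C.W)) := pr_pt C.hW ⊥
  rw [h, Ideal.mem_bot]
  exact C.hj

theorem η_memU : C.η ∈ U := C.hjU C.η_memD

/-- The coefficient of a section on the standard open. -/
def coef {V : X.Opens} (s : Γ(M, V)) : Γ(X, V ⊓ X.basicOpen C.j) :=
  (Equiv.ofBijective _ (C.he (V ⊓ X.basicOpen C.j) inf_le_right)).symm (rs M inf_le_left s)

theorem coef_spec {V : X.Opens} (s : Γ(M, V)) :
    C.coef s • rs M inf_le_right C.e = rs M (inf_le_left : V ⊓ X.basicOpen C.j ≤ V) s :=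
  Equiv.apply_symm_apply (Equiv.ofBijective _ (C.he (V ⊓ X.basicOpen C.j) inf_le_right)) _

/-- The coordinate of a section. -/
def crd {V : X.Opens} (hV : C.η ∈ V) (s : Γ(M, V)) : C.F :=
  sec C.hW (V := V ⊓ X.basicOpen C.j) ⟨hV, C.η_memD⟩ (C.coef s)

theorem crd_eq {V N : X.Opens} (hNV : N ≤ V) (hND : N ≤ X.basicOpen C.j) (hN : C.η ∈ N) (s : Γ(M, V))
    (a : Γ(X, N)) (h : a • rs M hND C.e = rs M hNV s) : C.crd (hNV hN) s = sec C.hW hN a := by
  have h1 : rO X (le_inf hNV hND) (C.coef s) = a := (C.he N hND).1 (by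
    show _ • _ = _ • _
    rw [h, ← rs_rs M (le_inf hNV hND) inf_le_left s, ← C.coef_spec, rs_smul, rs_rs])
  rw [← h1, sec_res]
  rfl

theorem crd_res {V V' : X.Opens} (h : V' ≤ V) (hV' : C.η ∈ V') (s : Γ(M, V)) :
    C.crd hV' (rs M h s) = C.crd (h hV') s := by
  refine ((C.crd_eq ((inf_le_left : V' ⊓ X.basicOpen C.j ≤ V').trans h) inf_le_right
    ⟨hV', C.η_memD⟩ s (C.coef (rs M h s)) ?_).trans rfl).symm
  rw [C.coef_spec, rs_rs]

theorem crd_smul {V : X.Opens} (hV : C.η ∈ V) (a : Γ(X, V)) (s : Γ(M, V)) :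
    C.crd hV (a • s) = sec C.hW hV a * C.crd hV s := by
  have h := C.crd_eq (inf_le_left : V ⊓ X.basicOpen C.j ≤ V) inf_le_right ⟨hV, C.η_memD⟩ (a • s)
    (rO X inf_le_left a * C.coef s) (by rw [mul_smul, C.coef_spec, rs_smul])
  rw [h, map_mul, sec_res]
  rfl

theorem crd_e : C.crd C.η_memD C.e = 1 := by
  have h := C.crd_eq (le_refl _) (le_refl _) C.η_memD C.e 1 (by rw [one_smul])
  rwa [map_one] at h

theorem crd_gen_ne_zero {O : X.Opens} (hO : C.η ∈ O) {g : Γ(M, O)} (hg : IsGen M O g) :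
    C.crd hO g ≠ 0 := by
  intro h
  obtain ⟨c, hc⟩ := (hg (O ⊓ X.basicOpen C.j) inf_le_left).2 (rs M inf_le_right C.e)
  have hm : C.η ∈ O ⊓ X.basicOpen C.j := ⟨hO, C.η_memD⟩
  have h1 := congrArg (C.crd hm) hc
  simp only at h1
  rw [C.crd_smul, C.crd_res, C.crd_res, C.crd_e, h, mul_zero] at h1
  exact zero_ne_one h1

theorem inLoc_div {O V : X.Opens} {y : X} (hy : y ∈ C.W) (hyO : y ∈ O) (hyV : y ∈ V) {g : Γ(M, O)}
    (hg : IsGen M O g) (s : Γ(M, V)) :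
    InLoc (pr C.hW hy) (C.crd (gen_mem_of_mem C.hW hy hyV) s / C.crd (gen_mem_of_mem C.hW hy hyO) g) := by
  obtain ⟨a, ha⟩ := (hg (O ⊓ V) inf_le_left).2 (rs M inf_le_right s)
  have hm : C.η ∈ O ⊓ V := gen_mem_of_mem C.hW hy ⟨hyO, hyV⟩
  have h1 := congrArg (C.crd hm) ha
  simp only at h1
  rw [C.crd_smul, C.crd_res, C.crd_res] at h1
  rw [← h1, mul_div_assoc, div_self (C.crd_gen_ne_zero _ hg), mul_one]
  exact inLoc_sec C.hW hy (show y ∈ O ⊓ V from ⟨hyO, hyV⟩) a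

theorem unitAt_div {O O' : X.Opens} {y : X} (hy : y ∈ C.W) (hyO : y ∈ O) (hyO' : y ∈ O') {g : Γ(M, O)}
    {g' : Γ(M, O')} (hg : IsGen M O g) (hg' : IsGen M O' g') :
    UnitAt (pr C.hW hy) (C.crd (gen_mem_of_mem C.hW hy hyO') g' / C.crd (gen_mem_of_mem C.hW hy hyO) g) := by
  refine ⟨div_ne_zero (C.crd_gen_ne_zero _ hg') (C.crd_gen_ne_zero _ hg), C.inLoc_div hy hyO hyO' hg g', ?_⟩
  rw [inv_div]
  exact C.inLoc_div hy hyO' hyO hg' g

variable (hs : SupportedOn M U) (hgen : GenOn M U)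
include hs hgen

theorem eq_of_crd {V : X.Opens} (hV : V ≤ C.W) (s t : Γ(M, V))
    (h : ∀ hη : C.η ∈ V, C.crd hη s = C.crd hη t) : s = t := by
  refine (hs V).1 ?_
  refine eq_of_locally M _ _ fun y hy => ?_
  obtain ⟨O, hyO, -, g, hg⟩ := hgen y hy.2
  refine ⟨V ⊓ U ⊓ O, inf_le_left, ⟨hy, hyO⟩, ?_⟩
  have hyW : y ∈ C.W := hV hy.1
  have hη : C.η ∈ V ⊓ U ⊓ O := gen_mem_of_mem C.hW hyW ⟨hy, hyO⟩
  obtain ⟨a, ha⟩ := (hg (V ⊓ U ⊓ O) inf_le_right).2 (rs M inf_le_left (rs M inf_le_left s))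
  obtain ⟨b, hb⟩ := (hg (V ⊓ U ⊓ O) inf_le_right).2 (rs M inf_le_left (rs M inf_le_left t))
  simp only at ha hb
  show rs M inf_le_left (rs M inf_le_left s) = rs M inf_le_left (rs M inf_le_left t)
  rw [← ha, ← hb]
  congr 1
  apply sec_injective C.hW ((inf_le_left.trans inf_le_left).trans hV) hη
  have h1 := congrArg (C.crd hη) ha
  have h2 := congrArg (C.crd hη) hb
  rw [C.crd_smul, C.crd_res, C.crd_res, C.crd_res] at h1 h2
  rw [← h (hη.1.1)] at h2
  exact mul_right_cancel₀ (C.crd_gen_ne_zero _ hg) (h1.trans h2.symm)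

omit hs in
/-- The coordinate of a chosen generator near a point of `U`. -/
theorem exists_gen_near {y : X} (hyU : y ∈ U) :
    ∃ (O : X.Opens) (g : Γ(M, O)), y ∈ O ∧ IsGen M O g := by
  obtain ⟨O, hyO, -, g, hg⟩ := hgen y hyU
  exact ⟨O, g, hyO, hg⟩

theorem exists_of_crd {V : X.Opens} (hV : V ≤ C.W) (z : C.F)
    (hz : ∀ y (hy : y ∈ V), y ∈ U → ∃ (O : X.Opens) (hyO : y ∈ O) (g : Γ(M, O)), IsGen M O g ∧
      InLoc (pr C.hW (hV hy)) (z / C.crd (gen_mem_of_mem C.hW (hV hy) hyO) g)) :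
    ∃ s : Γ(M, V), ∀ hη : C.η ∈ V, C.crd hη s = z := by
  choose O hyO g hg hl using fun y : (V ⊓ U : X.Opens) => hz y.1 y.2.1 y.2.2
  choose N hN hyN a ha using fun y : (V ⊓ U : X.Opens) => exists_nhd C.hW
    (inf_le_left.trans (inf_le_left.trans hV) : V ⊓ U ⊓ O y ≤ C.W) ⟨y.2, hyO y⟩ (hl y)
  let t : ∀ y, Γ(M, N y) := fun y => a y • rs M ((hN y).trans inf_le_right) (g y)
  have ht : ∀ y (hη : C.η ∈ N y), C.crd hη (t y) = z := fun y hη => by
    show C.crd hη (a y • _) = z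
    rw [C.crd_smul, C.crd_res, show sec C.hW hη (a y) = _ from ha y,
      div_mul_cancel₀ _ (C.crd_gen_ne_zero _ (hg y))]
  obtain ⟨t₀, ht₀⟩ := exists_glue M N (V ⊓ U) (fun y => (hN y).trans inf_le_left)
    (fun y hy => ⟨⟨y, hy⟩, hyN ⟨y, hy⟩⟩) t fun i k => by
      refine C.eq_of_crd hs hgen ((inf_le_left.trans ((hN i).trans inf_le_left)).trans (inf_le_left.trans hV)) _ _ fun hη => ?_
      rw [C.crd_res, C.crd_res, ht, ht]
  obtain ⟨s, hsv⟩ := (hs V).2 t₀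
  refine ⟨s, fun hη => ?_⟩
  have hηU : C.η ∈ V ⊓ U := ⟨hη, C.η_memU⟩
  have h1 := congrArg (C.crd (hyN ⟨C.η, hηU⟩)) (ht₀ ⟨C.η, hηU⟩)
  rw [C.crd_res, ht, ← hsv] at h1
  rw [← h1]
  exact (C.crd_res _ _ s).symm

end Chart

end Groth.L21.Extend
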